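import Groth.Agent.L11.REq.Arc

/-!
A regular local ring which is not a field has a regular one-dimensional quotient.
-/

set_option autoImplicit false
set_option linter.style.haveILetI false

universe u

open IsLocalRing

namespace Groth.L22.DiagDec

theorem exists_dvr_quotient (R : Type u) [CommRing R] [IsRegularLocalRing R] (hnf : ¬ IsField R) :
    ∃ (P : Ideal R) (_ : IsDomain (R ⧸ P)), IsDiscreteValuationRing (R ⧸ P) := by
  let T : Set (Ideal R) := {P | IsRegularLocalRing (R ⧸ P) ∧ P ≠ maximalIdeal R}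
  obtain ⟨P, ⟨hP, hPm⟩, hmax⟩ := WellFounded.has_min (wellFounded_gt (α := Ideal R)) T
    ⟨⊥, IsRegularLocalRing.of_ringEquiv (RingEquiv.quotientBot R).symm, fun h => hnf (by
      rw [IsLocalRing.isField_iff_maximalIdeal_eq, ← h])⟩
  haveI : IsDomain (R ⧸ P) := Groth.L01.isDomain_of_regular _
  refine ⟨P, inferInstance, ?_⟩
  have hne : P ≠ ⊤ := Ideal.Quotient.nontrivial_iff.mp inferInstance
  have hnf' : ¬ IsField (R ⧸ P) := fun h => hPm (IsLocalRing.eq_maximalIdeal (Ideal.Quotient.maximal_of_isField P h))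
  by_cases hspan : (maximalIdeal (R ⧸ P)).spanFinrank ≤ 1
  · have hpr : (maximalIdeal (R ⧸ P)).IsPrincipal := by
      obtain ⟨s, hs, hspan'⟩ := Submodule.FG.exists_span_finset_card_eq_spanFinrank
        (IsNoetherian.noetherian (maximalIdeal (R ⧸ P)))
      rcases Finset.card_le_one_iff_subset_singleton.mp (hs.trans_le hspan) with ⟨a, ha⟩
      rcases Finset.subset_singleton_iff.mp ha with rfl | rfl
      · exact ⟨⟨0, by rw [← hspan']; simp⟩⟩
      · exact ⟨⟨a, by rw [← hspan']; simp⟩⟩
    exact ((IsDiscreteValuationRing.TFAE (R ⧸ P) hnf').out 4 0).mp hpr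
  · exfalso
    have hnak : ∀ S : Ideal (R ⧸ P), maximalIdeal (R ⧸ P) ≤ S ⊔ maximalIdeal (R ⧸ P) ^ 2 →
        maximalIdeal (R ⧸ P) ≤ S := fun S h =>
      Submodule.le_of_le_smul_of_le_jacobson_bot (IsNoetherian.noetherian _)
        (IsLocalRing.jacobson_eq_maximalIdeal ⊥ bot_ne_top).ge (by rwa [smul_eq_mul, ← pow_two])
    obtain ⟨x, hx, hx2⟩ : ∃ x ∈ maximalIdeal (R ⧸ P), x ∉ maximalIdeal (R ⧸ P) ^ 2 := by
      by_contra! h
      refine hspan ?_
      have := hnak ⊥ (fun x hx => Ideal.mem_sup_right (h x hx))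
      rw [le_bot_iff.mp this, Submodule.spanFinrank_bot]
      exact Nat.zero_le _
    obtain ⟨x', rfl⟩ := Ideal.Quotient.mk_surjective x
    haveI := (Groth.L01.regular_quotient_of_notMem_sq hx hx2).1
    have hmap : (Ideal.span {x'}).map (Ideal.Quotient.mk P) = Ideal.span {Ideal.Quotient.mk P x'} := by
      rw [Ideal.map_span, Set.image_singleton]
    refine hmax (P ⊔ Ideal.span {x'}) ⟨IsRegularLocalRing.of_ringEquiv
      ((Ideal.quotEquivOfEq hmap.symm).trans (DoubleQuot.quotQuotEquivQuotSup P (Ideal.span {x'}))),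
      fun h => hspan ?_⟩ ?_
    · have h1 : maximalIdeal (R ⧸ P) ≤ Ideal.span {Ideal.Quotient.mk P x'} := by
        intro y hy
        obtain ⟨y', rfl⟩ := Ideal.Quotient.mk_surjective y
        have hy' : y' ∈ P ⊔ Ideal.span {x'} := h ▸ (mem_maximalIdeal y').2 fun hu => (mem_maximalIdeal _).1 hy
          (hu.map (Ideal.Quotient.mk P))
        have h2 := Ideal.mem_map_of_mem (Ideal.Quotient.mk P) hy'
        rwa [Ideal.map_sup, Ideal.map_quotient_self, bot_sup_eq, hmap] at h2
      rw [le_antisymm h1 ((Ideal.span_singleton_le_iff_mem _).mpr hx)]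
      exact (Submodule.spanFinrank_span_le_ncard_of_finite (Set.finite_singleton _)).trans
        (Set.ncard_singleton _).le
    · refine lt_of_le_of_ne le_sup_left fun h => hx2 ?_
      have hx' : x' ∈ P := h.ge (Ideal.mem_sup_right (Ideal.mem_span_singleton_self x'))
      rw [Ideal.Quotient.eq_zero_iff_mem.mpr hx']
      exact Ideal.zero_mem _

end Groth.L22.DiagDec
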