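import Groth.Agent.L22.DiagDec.CurveDiv
import Groth.Agent.L22.SymCorr.AlgTriv

/-!
Zero-cycles of degree zero on a proper variety over an algebraically closed field are divisible modulo
rational equivalence.
-/

set_option autoImplicit false
set_option linter.style.haveILetI false
set_option backward.isDefEq.respectTransparency false
set_option backward.isDefEq.respectTransparency.types false

universe u

open AlgebraicGeometry CategoryTheory CategoryTheory.Limits MonoidalCategory
open Groth.L22.Chern (ratGroup pushC pushC_eq pushC_rat pushC_mem)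

noncomputable section

namespace Groth.L22.DiagDec

variable {k : Type u} [Field k] [IsAlgClosed k] {X : Scheme.{u}} [DecidableEq ↥X]
  (p : X ⟶ Spec (CommRingCat.of k)) [IsProper p] [IsLocallyNoetherian X] {δ : X → ℤ}
  (hX : Cyc.IsDimFun X δ) (hδ : Cyc.DeltaCompat p δ fun _ => 0)

/-- Divisibility by `N` of a cycle in the Chow group of zero-cycles. -/
def Dvd (N : ℕ) (A : AlgebraicCycle X ℤ) : Prop := ∃ β ∈ Cyc.Zk X δ 0, A - N • β ∈ ratGroup hX 0

theorem Dvd.add {N : ℕ} {A B : AlgebraicCycle X ℤ} (hA : Dvd hX N A) (hB : Dvd hX N B) : Dvd hX N (A + B) := by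
  obtain ⟨a, ha, h⟩ := hA
  obtain ⟨b, hb, h'⟩ := hB
  refine ⟨a + b, (ChowOps.zk X δ 0).add_mem ha hb, ?_⟩
  rw [nsmul_add, add_sub_add_comm]
  exact add_mem h h'

theorem Dvd.neg {N : ℕ} {A : AlgebraicCycle X ℤ} (hA : Dvd hX N A) : Dvd hX N (-A) := by
  obtain ⟨a, ha, h⟩ := hA
  refine ⟨-a, (ChowOps.zk X δ 0).neg_mem ha, ?_⟩
  rw [neg_nsmul, ← neg_sub']
  exact neg_mem h

theorem Dvd.zero {N : ℕ} : Dvd hX N (0 : AlgebraicCycle X ℤ) :=
  ⟨0, (ChowOps.zk X δ 0).zero_mem, by rw [nsmul_zero, sub_zero]; exact zero_mem _⟩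

theorem Dvd.zsmul {N : ℕ} {A : AlgebraicCycle X ℤ} (c : ℤ) (hA : Dvd hX N A) : Dvd hX N (c • A) := by
  obtain ⟨a, ha, h⟩ := hA
  refine ⟨c • a, (ChowOps.zk X δ 0).zsmul_mem ha c, ?_⟩
  rw [smul_comm N c a, ← zsmul_sub]
  exact zsmul_mem h c

include hδ in
set_option maxHeartbeats 800000 in
theorem link_dvd (N : ℕ) (hN : 1 ≤ N) (a a' : 𝟙_ (Over (Spec (CommRingCat.of k))) ⟶ Over.mk p)
    (hlink : Groth.Agent.Pic0.Chain.CurveLink₁ (Over.mk p) a a') :
    Dvd hX N (Function.locallyFinsuppWithin.single (a.left (IsLocalRing.closedPoint k)) (1 : ℤ) -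
      Function.locallyFinsuppWithin.single (a'.left (IsLocalRing.closedPoint k)) (1 : ℤ)) := by
  obtain ⟨C, _, _, _, hd, V, g, c, c', rfl, rfl⟩ := hlink
  letI : C.left.Over (Spec (CommRingCat.of k)) := ⟨C.hom⟩
  letI : X.Over (Spec (CommRingCat.of k)) := ⟨p⟩
  haveI : IsProper (C.left ↘ Spec (CommRingCat.of k)) := inferInstanceAs (IsProper C.hom)
  haveI : IsProper (X ↘ Spec (CommRingCat.of k)) := inferInstanceAs (IsProper p)
  haveI : IsIntegral C.left := GeometricallyIntegral.isIntegral_of_subsingleton C.hom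
  haveI : Nonempty C.left := inferInstance
  have hne : (V : Set C.left).Nonempty := ⟨(c.left ≫ V.ι) (IsLocalRing.closedPoint k), by
    rw [← Scheme.Opens.range_ι]; exact ⟨_, rfl⟩⟩
  have hcurve : ∀ x : C.left, IsClosed ({x} : Set C.left) → ringKrullDim (C.left.presheaf.stalk x) = 1 := by
    intro x hx
    obtain ⟨na, nb, hna, hnb, hD⟩ := Groth.L00.EquidimFlat.point_data' k C.hom (topologicalKrullDim C.left)
      (fun Z hZ => by
        rw [irreducibleComponents_eq_singleton, Set.mem_singleton_iff] at hZ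
        subst hZ
        exact (Homeomorph.Set.univ _).isHomeomorph.topologicalKrullDim_eq) x
    have h1 : Cyc.rtrdeg C.hom x = 0 := by
      letI := (C.hom.residueFieldMap x).hom.toAlgebra
      haveI : Module.Finite ((Spec (CommRingCat.of k)).residueField (C.hom x)) (C.left.residueField x) :=
        Module.finite_of_finrank_pos (by
          show 0 < C.hom.residueDegree x
          rw [Groth.L22.SymCorr.residueDegree_of_isClosed C.hom x hx]; norm_num)
      haveI : Algebra.IsAlgebraic ((Spec (CommRingCat.of k)).residueField (C.hom x)) (C.left.residueField x) :=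
        Algebra.IsAlgebraic.of_finite _ _
      exact trdeg_eq_zero
    have h2 : na = 0 := by exact_mod_cast hna.symm.trans h1
    rw [hnb]
    rw [hd, h2, zero_add] at hD
    exact hD.symm
  obtain ⟨h, ⟨hVh, hh⟩, -⟩ := Groth.Agent.S2344.result k C.left X hcurve
    (fun x => ⟨Groth.L21.Smooth.isDomain_stalk C.hom x, Groth.L21.Smooth.isIntegrallyClosed_stalk C.hom x⟩) V (V.2.dense hne) g.left (Over.w g)
  have hpt : ∀ c : 𝟙_ (Over (Spec (CommRingCat.of k))) ⟶ Over.mk (V.ι ≫ C.hom),
      (c ≫ g).left (IsLocalRing.closedPoint k) = h ((c.left ≫ V.ι) (IsLocalRing.closedPoint k)) := fun c => by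
    show (c.left ≫ g.left) (IsLocalRing.closedPoint k) = _
    rw [← hVh]
    rfl
  rw [hpt c, hpt c']
  haveI : Smooth (C.left ↘ Spec (CommRingCat.of k)) := inferInstanceAs (Smooth C.hom)
  haveI : IsLocallyNoetherian C.left := LocallyOfFiniteType.isLocallyNoetherian C.hom
  obtain ⟨δC, hsC, hδC⟩ := Groth.L22.Cyc.exists_setup C.hom (Groth.L22.SymCorr.isSetup_field k)
  have hdC := hsC.2.2
  haveI : IsProper h := by
    haveI : IsProper (h ≫ p) := by
      rw [show h ≫ p = C.hom from hh]; infer_instance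
    exact IsProper.of_comp h p
  have hδh : Cyc.DeltaCompat h δC δ := by
    refine Groth.L22.Bundle.deltaCompat_cancel h p ?_ hδ
    rw [show h ≫ p = C.hom from hh]
    exact hδC
  classical
  let z := (c.left ≫ V.ι) (IsLocalRing.closedPoint k)
  let z' := (c'.left ≫ V.ι) (IsLocalRing.closedPoint k)
  have hcl : ∀ (t : Spec (CommRingCat.of k) ⟶ C.left), t ≫ C.hom = 𝟙 _ →
      IsClosed ({t (IsLocalRing.closedPoint k)} : Set C.left) := fun t ht =>
    (pointEquivClosedPoint C.hom ⟨t, ht⟩).2
  have hz : IsClosed ({z} : Set C.left) := hcl _ (by rw [Category.assoc]; exact Over.w c)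
  have hz' : IsClosed ({z'} : Set C.left) := hcl _ (by rw [Category.assoc]; exact Over.w c')
  obtain ⟨β, hβ, hβ'⟩ := exists_divide_points hdC hδC hd hz hz'
    (P := Function.locallyFinsuppWithin.single z (1 : ℤ)) (P' := Function.locallyFinsuppWithin.single z' (1 : ℤ))
    (by simp) (fun y hy => by simp [Function.locallyFinsuppWithin.single_apply, hy])
    (by simp) (fun y hy => by simp [Function.locallyFinsuppWithin.single_apply, hy]) hN
  have hpt1 : ∀ y : C.left, IsClosed ({y} : Set C.left) →
      pushC h δC δ (Function.locallyFinsuppWithin.single y (1 : ℤ)) = Function.locallyFinsuppWithin.single (h y) (1 : ℤ) := by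
    intro y hy
    refine Function.locallyFinsuppWithin.ext fun x => ?_
    show (∑ᶠ t ∈ h ⁻¹' {x}, (Function.locallyFinsuppWithin.single y (1 : ℤ)) t *
      ((AlgebraicCycle.mapCoeff h δC δ t : ℕ) : ℤ)) = _
    rw [finsum_mem_def, finsum_eq_single _ y fun t ht => by simp [Set.indicator, Function.locallyFinsuppWithin.single_apply, ht]]
    have h1 : h.residueDegree y = 1 := by
      have := Groth.L22.Cyc.residueDegree_congr _ hh y
      rw [Groth.L22.Cyc.residueDegree_comp, Groth.L22.SymCorr.residueDegree_of_isClosed _ y hy] at this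
      exact Nat.eq_one_of_mul_eq_one_left this
    by_cases hx : h y = x
    · rw [Set.indicator_of_mem (show y ∈ h ⁻¹' {x} from hx), Groth.L22.Cyc.mapCoeff_eq h hδh, h1, ← hx]
      simp
    · rw [Set.indicator_of_notMem (show y ∉ h ⁻¹' {x} from hx)]
      simp [Function.locallyFinsuppWithin.single_apply, Ne.symm hx]
  refine ⟨pushC h δC δ β, pushC_mem h hβ, ?_⟩
  have := pushC_rat h hdC hX hδh (k := 0) hβ'
  rw [map_sub, map_sub, map_nsmul, hpt1 z hz, hpt1 z' hz'] at this
  exact this

include hδ in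
/-- Zero-cycles of degree zero are divisible. -/
theorem dvd_of_deg_zero [IsIntegral X] (N : ℕ) (hN : 1 ≤ N) (α : AlgebraicCycle X ℤ) (hα : α ∈ Cyc.Zk X δ 0)
    (hdeg : ChowOps.deg p δ α = 0) : Dvd hX N α := by
  classical
  haveI : CompactSpace X := QuasiCompact.compactSpace_of_compactSpace p
  haveI : Subsingleton ↥(Spec (CommRingCat.of k)) := inferInstanceAs (Subsingleton (PrimeSpectrum k))
  let B := (Groth.L22.Cyc.finite_support α).toFinset
  have hBc : ∀ x ∈ B, IsClosed ({x} : Set X) := fun x hx => (Groth.L22.SymCorr.delta_eq_zero_iff p hδ x).1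
    (by_contra fun h => (Groth.L22.Cyc.finite_support α).mem_toFinset.1 hx (hα x h))
  rcases B.eq_empty_or_nonempty with hB | ⟨x₀, hx₀⟩
  · have : α = 0 := Function.locallyFinsuppWithin.ext fun x => by
      by_contra hx
      exact Finset.notMem_empty x (hB ▸ (Groth.L22.Cyc.finite_support α).mem_toFinset.2 (by simpa using hx) : x ∈ (∅ : Finset X))
    rw [this]
    exact Dvd.zero hX
  have hsum : ∑ x ∈ B, α x = 0 := by
    rw [← hdeg, ChowOps.deg]
    show _ = ∑ᶠ x ∈ p ⁻¹' {IsLocalRing.closedPoint k}, α x * ((AlgebraicCycle.mapCoeff p δ (fun _ => (0 : ℤ)) x : ℕ) : ℤ)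
    rw [show p ⁻¹' {IsLocalRing.closedPoint k} = Set.univ from Set.eq_univ_of_forall fun x => Subsingleton.elim _ _,
      finsum_mem_univ, finsum_eq_sum_of_support_subset _ (s := B) fun x hx =>
        (Groth.L22.Cyc.finite_support α).mem_toFinset.2 (left_ne_zero_of_mul hx)]
    refine Finset.sum_congr rfl fun x hx => ?_
    rw [Groth.L22.Cyc.mapCoeff_eq p hδ, Groth.L22.SymCorr.residueDegree_of_isClosed p x (hBc x hx), Nat.cast_one, mul_one]
  have hlink : ∀ x, IsClosed ({x} : Set X) → Function.locallyFinsuppWithin.single x (1 : ℤ) -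
      Function.locallyFinsuppWithin.single x₀ (1 : ℤ) ∈ {A : AlgebraicCycle X ℤ | Dvd hX N A} := by
    intro x hx
    let a : 𝟙_ (Over (Spec (CommRingCat.of k))) ⟶ Over.mk p :=
      Over.homMk (pointOfClosedPoint p x hx) (pointOfClosedPoint_comp _ _ _)
    let a' : 𝟙_ (Over (Spec (CommRingCat.of k))) ⟶ Over.mk p :=
      Over.homMk (pointOfClosedPoint p x₀ (hBc x₀ hx₀)) (pointOfClosedPoint_comp _ _ _)
    haveI : IsIntegral (Over.mk p).left := inferInstanceAs (IsIntegral X)
    haveI : LocallyOfFiniteType (Over.mk p).hom := inferInstanceAs (LocallyOfFiniteType p)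
    have key : ∀ b b', Relation.EqvGen (Groth.Agent.Pic0.Chain.CurveLink₁ (Over.mk p)) b b' →
        Dvd hX N (Function.locallyFinsuppWithin.single (b.left (IsLocalRing.closedPoint k)) (1 : ℤ) -
          Function.locallyFinsuppWithin.single (b'.left (IsLocalRing.closedPoint k)) (1 : ℤ)) := by
      intro b b' h
      induction h with
      | rel b b' h => exact link_dvd p hX hδ N hN b b' h
      | refl b => rw [sub_self]; exact Dvd.zero hX
      | symm b b' _ ih => rw [← neg_sub]; exact Dvd.neg hX ih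
      | trans b b' b'' _ _ ih ih' =>
        rw [← sub_add_sub_cancel _ (Function.locallyFinsuppWithin.single (b'.left (IsLocalRing.closedPoint k)) (1 : ℤ))]
        exact Dvd.add hX ih ih'
    have h1 := key a a' (Groth.Agent.Pic0.Chain.eqvGen_curveLink (Over.mk p) a a')
    have e1 : a.left (IsLocalRing.closedPoint k) = x := pointOfClosedPoint_apply p x hx _
    have e2 : a'.left (IsLocalRing.closedPoint k) = x₀ := pointOfClosedPoint_apply p x₀ (hBc x₀ hx₀) _
    rw [e1, e2] at h1
    exact h1
  have he : α = ∑ x ∈ B, α x • (Function.locallyFinsuppWithin.single x (1 : ℤ) -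
      Function.locallyFinsuppWithin.single x₀ (1 : ℤ)) := by
    refine Function.locallyFinsuppWithin.ext fun y => ?_
    simp only [Function.locallyFinsuppWithin.coe_sum, Finset.sum_apply, Function.locallyFinsuppWithin.coe_zsmul,
      Pi.smul_apply, Function.locallyFinsuppWithin.coe_sub, Pi.sub_apply, Function.locallyFinsuppWithin.single_apply,
      smul_eq_mul, mul_sub]
    rw [Finset.sum_sub_distrib, ← Finset.sum_mul, hsum, zero_mul, sub_zero]
    simp only [mul_ite, mul_one, mul_zero]
    rw [Finset.sum_ite_eq]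
    split_ifs with hy
    · rfl
    · by_contra h
      exact hy ((Groth.L22.Cyc.finite_support α).mem_toFinset.2 h)
  rw [he]
  exact Finset.sum_induction _ (Dvd hX N) (fun _ _ => Dvd.add hX) (Dvd.zero hX)
    fun x hx => Dvd.zsmul hX _ (hlink x (hBc x hx))

end Groth.L22.DiagDec
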