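import Groth.Agent.L22.Chern.DualClass
import Groth.Agent.L22.Chern.CurveClass
import Groth.Agent.L22.SymCorr.Dim
import Groth.Agent.L22.CurveThrough
import Groth.Agent.L21.RR.PointPow
import Groth.Agent.L21.CurveKummer.Pic
import Groth.Agent.S1925
import Groth.Agent.S6454

/-!
Differences of points on a smooth proper curve over an algebraically closed field are divisible in the Chow
group.
-/

set_option autoImplicit false
set_option linter.style.haveILetI false
set_option linter.unusedSectionVars false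
set_option maxSynthPendingDepth 3
set_option synthInstance.maxHeartbeats 400000
set_option backward.isDefEq.respectTransparency false
set_option backward.isDefEq.respectTransparency.types false

universe u

open CategoryTheory CategoryTheory.Limits AlgebraicGeometry TopologicalSpace
open Groth.L22.Chern (Tot emb emb_eq rat_of_emb_eq x1 x1_emb x1_congr x1_tensor pw pw_mem sec sec_ne ratGroup)
open Groth.L21.RR (st one st_one)

noncomputable section

namespace Groth.L22.DiagDec

open Groth.Agent.AV.InterPic (picLaw rep cl_rep isInvertible_rep)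
attribute [local instance] Groth.Agent.AV.InterPic.picLaw

variable {k : Type u} [Field k] [IsAlgClosed k] {C : Scheme.{u}} [C.Over (Spec (CommRingCat.of k))]
  [AlgebraicGeometry.IsIntegral C] [IsProper (C ↘ Spec (CommRingCat.of k))]
  [Smooth (C ↘ Spec (CommRingCat.of k))] [IsLocallyNoetherian C]
  {δ : C → ℤ} (hd : Cyc.IsDimFun C δ) (hδ : Cyc.DeltaCompat (C ↘ Spec (CommRingCat.of k)) δ fun _ => 0)

include hd hδ in
theorem delta_cases (hdim : topologicalKrullDim C = 1) :
    δ (genericPoint C) = 1 ∧ ∀ y : C, y ≠ genericPoint C → IsClosed ({y} : Set C) ∧ δ y = 0 := by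
  have hcl : ∀ y : C, y ≠ genericPoint C → IsClosed ({y} : Set C) := fun y hy => by
    by_contra h
    exact hy (Groth.L21.RR.eq_genericPoint_of_not_isClosed hdim.le h)
  refine ⟨?_, fun y hy => ⟨hcl y hy, (Groth.L22.SymCorr.delta_eq_zero_iff _ hδ y).2 (hcl y hy)⟩⟩
  haveI : CompactSpace C := QuasiCompact.compactSpace_of_compactSpace (C ↘ Spec (CommRingCat.of k))
  obtain ⟨z, -, hz⟩ := (isClosed_univ (X := C)).exists_closed_singleton Set.univ_nonempty
  have hzη : genericPoint C ≠ z := fun h => by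
    have h1 : topologicalKrullDim C ≤ 0 := by
      rw [← (Homeomorph.Set.univ C).isHomeomorph.topologicalKrullDim_eq, ← (genericPoint_spec C).def, h, hz.closure_eq]
      exact Groth.L22.CurveThrough.dim_singleton_le z
    rw [hdim] at h1
    exact absurd h1 (by norm_num)
  obtain ⟨-, h2⟩ := hd (genericPoint C) z ((genericPoint_spec C).specializes trivial) hzη
  have h0 := (Groth.L22.SymCorr.delta_eq_zero_iff (C ↘ Spec (CommRingCat.of k)) hδ z).2 hz
  have h3 := h2 fun w hw hwz => by
    by_cases hwη : w = genericPoint C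
    · exact Or.inl hwη
    · exact Or.inr ((hcl w hwη).stableUnderSpecialization hwz rfl).symm
  omega

include hd hδ in
/-- A closed point is the first Chern class of an invertible module of degree one. -/
theorem exists_line_point (hdim : topologicalKrullDim C = 1) {F : AlgebraicCycle C ℤ}
    (hF : ⇑F = Cyc.subschemeFun δ 1 (𝟙 C)) {z : C} (hz : IsClosed ({z} : Set C)) {P : AlgebraicCycle C ℤ}
    (hPz : P z = 1) (hP : ∀ y, y ≠ z → P y = 0) :
    ∃ (L : C.Modules) (hL : PicF.IsInvertible L), Curv2.deg k C L 1 = 1 ∧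
      x1 hd hL (emb δ 1 F) = emb δ 0 P := by
  classical
  obtain ⟨hη, hpt⟩ := delta_cases hd hδ hdim
  have hzne : z ≠ genericPoint C := fun h => by
    have := (Groth.L22.SymCorr.delta_eq_zero_iff _ hδ z).2 hz
    rw [h, hη] at this
    exact one_ne_zero this
  haveI := Groth.L21.RR.isNoetherian_of_proper (X := C) k
  have hprinc : (IsLocalRing.maximalIdeal (C.presheaf.stalk z)).IsPrincipal := by
    haveI := Groth.L21.RR.isDiscreteValuationRing_stalk hdim hz
      (Groth.L08.Cube.isRegularLocalRing_of_smooth (C ↘ Spec (CommRingCat.of k)) z)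
    exact (IsPrincipalIdealRing.principal _)
  obtain ⟨L, s, π, e, hL, hdeg, hs0, hsur, he, hsz, hπ⟩ :=
    Groth.L21.RR.exists_deg_one_section k hdim.le hz hzne (Groth.L21.RR.isRat_of_isClosed k hz) hprinc
  refine ⟨L, hL, hdeg, ?_⟩
  let σ : L.presheaf.obj (Opposite.op ⊤) := Groth.L18.GenLoc.secOf s
  have hgerm : ∀ y : C, L.presheaf.germ ⊤ y trivial σ = st s y (one C y) := fun y => ((st_one s y (W := ⊤) trivial).trans (by rw [Groth.L18.Frame.rs_self]; rfl)).symm
  have hunit : ∀ y, y ≠ z → Submodule.span (C.presheaf.stalk y) {L.presheaf.germ ⊤ y trivial σ} = ⊤ := by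
    intro y hy
    rw [Submodule.span_singleton_eq_top_iff]
    intro v
    obtain ⟨r, hr⟩ := hsur y hy v
    obtain ⟨a, rfl⟩ := (Groth.L21.RR.bijective_smul_one y).2 r
    exact ⟨a, by rw [hgerm, ← hr]; exact (map_smul (st s y) a (one C y)).symm⟩
  have hgenz : Submodule.span (C.presheaf.stalk z) {e} = ⊤ :=
    (Submodule.span_singleton_eq_top_iff _ _).2 he.2
  have hfz : L.presheaf.germ ⊤ z trivial σ = π • e := by rw [hgerm, hsz]
  have hπ0 : π ≠ 0 := fun h0 => by
    have hf : IsField (C.presheaf.stalk z) := by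
      rw [IsLocalRing.isField_iff_maximalIdeal_eq, hπ, h0, Submodule.span_singleton_eq_bot]
    haveI := Groth.L21.RR.isDiscreteValuationRing_stalk hdim hz
      (Groth.L08.Cube.isRegularLocalRing_of_smooth (C ↘ Spec (CommRingCat.of k)) z)
    exact IsDiscreteValuationRing.not_isField (C.presheaf.stalk z) hf
  have hdimle : ∀ y : C, δ y ≤ 0 + 1 := fun y => by
    by_cases hy : y = genericPoint C
    · rw [hy, hη]; norm_num
    · rw [(hpt y hy).2]; norm_num
  have hZ : ∀ y : C, (L.presheaf.germ ⊤ y trivial) σ ∈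
      IsLocalRing.maximalIdeal (C.presheaf.stalk y) • (⊤ : Submodule (C.presheaf.stalk y) (L.presheaf.stalk y)) →
      δ y ≤ 0 := by
    intro y hy
    by_cases hyz : y = z
    · exact ((Groth.L22.SymCorr.delta_eq_zero_iff _ hδ y).2 (hyz ▸ hz)).le
    · exfalso
      refine Groth.L22.C1.mk_gen_ne_zero hL (hunit y hyz) ?_
      exact (Submodule.Quotient.mk_eq_zero _).2 hy
  have hreg : ∀ y : C, δ y = 0 →
      Function.Injective fun a : C.presheaf.stalk y => a • (L.presheaf.germ ⊤ y trivial) σ := by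
    intro y _
    by_cases hyz : y = z
    · subst hyz
      intro a b hab
      simp only [hfz, smul_smul] at hab
      exact mul_right_cancel₀ hπ0 (he.1 hab)
    · exact Groth.L22.C1.IsGen.injective hL (hunit y hyz)
  have h1925 := Groth.Agent.S1925.result C δ ⟨inferInstance, fun y => by
      haveI := Groth.L08.Cube.isRegularLocalRing_of_smooth (C ↘ Spec (CommRingCat.of k)) y
      exact Groth.L06.DimLftJacobson.isUniversallyCatenary_of_regularLocal _, hd⟩ L hL 0 hdimle σ hZ hreg
  let w : (ξ : C) → Cyc.secFibre L ξ := Cyc.gysinChoice L σ (sec hL)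
  have hw : ∀ ξ, w ξ ≠ 0 := Groth.L22.C1.gysinChoice_ne_zero σ (sec hL) (sec_ne hL)
  have hF1 : F ∈ Cyc.Zk C δ 1 := fun y hy => by rw [hF]; exact if_neg hy
  rw [x1_emb hd hL hw hF1]
  congr 1
  refine Function.locallyFinsuppWithin.ext fun y => ?_
  have hy1 : pw hd hL hw 1 F y = Cyc.c1CapFun δ L (Cyc.subschemeFun δ 1 (𝟙 C))
      (fun ξ => Submodule.Quotient.mk ((L.presheaf.germ ⊤ ξ trivial) σ)) y := by
    rw [Groth.L22.Chern.pw, Groth.L22.Chern.cap_succ, Groth.L22.Chern.cap_zero, hF]
    refine finsum_congr fun ξ => ?_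
    by_cases hξ : ξ = genericPoint C
    · rw [show w ξ = Submodule.Quotient.mk ((L.presheaf.germ ⊤ ξ trivial) σ) from if_pos fun h0 => by
        rw [hξ] at h0
        exact Groth.L22.C1.mk_gen_ne_zero hL (hunit _ hzne.symm) h0]
    · rw [show Cyc.subschemeFun δ 1 (𝟙 C) ξ = 0 from if_neg (by rw [(hpt ξ hξ).2]; norm_num), zero_mul, zero_mul]
  rw [hy1, show (1 : ℤ) = 0 + 1 from rfl, ← h1925]
  unfold Cyc.zeroSectionFun
  by_cases hyz : y = z
  · subst hyz
    rw [hPz, if_pos ((Groth.L22.SymCorr.delta_eq_zero_iff _ hδ y).2 hz), dif_pos ⟨e, hgenz⟩]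
    set t := Classical.choose (⟨e, hgenz⟩ : ∃ t : L.presheaf.stalk y, Submodule.span (C.presheaf.stalk y) {t} = ⊤)
    have ht : Submodule.span (C.presheaf.stalk y) {t} = ⊤ :=
      Classical.choose_spec (⟨e, hgenz⟩ : ∃ t : L.presheaf.stalk y, Submodule.span (C.presheaf.stalk y) {t} = ⊤)
    obtain ⟨c, hc⟩ := (Submodule.span_singleton_eq_top_iff _ _).1 ht e
    have hex : ∃ f : C.presheaf.stalk y, (L.presheaf.germ ⊤ y trivial) σ = f • t :=
      ⟨π * c, by rw [hfz, mul_smul, hc]⟩
    rw [dif_pos hex]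
    have hf := Classical.choose_spec hex
    set f := Classical.choose hex
    obtain ⟨d, hd'⟩ := he.2 t
    have hcu : IsUnit c := by
      refine IsUnit.of_mul_eq_one d (he.1 ?_)
      show (c * d) • e = (1 : C.presheaf.stalk y) • e
      rw [mul_smul, show d • e = t from hd', hc, one_smul]
    have hfc : f = π * c := Groth.L22.C1.IsGen.injective hL ht
      (show f • t = (π * c) • t by rw [mul_smul, hc, ← hfz, ← hf])
    rw [hfc, Ideal.span_singleton_mul_right_unit hcu,
      show Ideal.span {π} = IsLocalRing.maximalIdeal (C.presheaf.stalk y) from hπ.symm]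
    haveI : IsSimpleModule (C.presheaf.stalk y) (C.presheaf.stalk y ⧸ IsLocalRing.maximalIdeal (C.presheaf.stalk y)) :=
      isSimpleModule_iff_isCoatom.2 (Ideal.isMaximal_def.1 (IsLocalRing.maximalIdeal.isMaximal _))
    rw [Module.length_eq_one_iff.2 inferInstance]
    rfl
  · rw [hP y hyz]
    split_ifs with h0 ht hf
    · have hgen := hunit y hyz
      have hf' := Classical.choose_spec hf
      set f := Classical.choose hf
      obtain ⟨c, hc⟩ := (Submodule.span_singleton_eq_top_iff _ _).1 hgen (Classical.choose ht)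
      have hu : IsUnit f := IsUnit.of_mul_eq_one c (Groth.L22.C1.IsGen.injective hL hgen
        (show (f * c) • _ = (1 : C.presheaf.stalk y) • _ by rw [mul_smul, hc, ← hf', one_smul]))
      haveI : Subsingleton (C.presheaf.stalk y ⧸ Ideal.span {f}) :=
        Ideal.Quotient.subsingleton_iff.2 (Ideal.span_singleton_eq_top.2 hu)
      rw [Module.length_eq_zero]
      rfl
    all_goals rfl

include hd hδ in
/-- Differences of points are divisible. -/
theorem exists_divide_points (hdim : topologicalKrullDim C = 1) {z z' : C} (hz : IsClosed ({z} : Set C))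
    (hz' : IsClosed ({z'} : Set C)) {P P' : AlgebraicCycle C ℤ} (hPz : P z = 1) (hP : ∀ y, y ≠ z → P y = 0)
    (hPz' : P' z' = 1) (hP' : ∀ y, y ≠ z' → P' y = 0) {N : ℕ} (hN : 1 ≤ N) :
    ∃ β ∈ Cyc.Zk C δ 0, (P - P') - N • β ∈ ratGroup hd 0 := by
  classical
  obtain ⟨hη, hpt⟩ := delta_cases hd hδ hdim
  obtain ⟨F, hF⟩ : ∃ F : AlgebraicCycle C ℤ, ⇑F = Cyc.subschemeFun δ 1 (𝟙 C) := by
    obtain ⟨A, hA1, hA2⟩ := Groth.L22.Chern.exists_single (genericPoint C)
    refine ⟨Cyc.subschemeFun δ 1 (𝟙 C) (genericPoint C) • A, funext fun y => ?_⟩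
    by_cases hy : y = genericPoint C
    · subst hy; simp [hA1]
    · simp [hA2 y hy, show Cyc.subschemeFun δ 1 (𝟙 C) y = 0 from if_neg (by rw [(hpt y hy).2]; norm_num)]
  have hP0 : P ∈ Cyc.Zk C δ 0 := fun y hy => hP y fun h => hy (h ▸ (Groth.L22.SymCorr.delta_eq_zero_iff _ hδ z).2 hz)
  have hP0' : P' ∈ Cyc.Zk C δ 0 := fun y hy => hP' y fun h => hy (h ▸ (Groth.L22.SymCorr.delta_eq_zero_iff _ hδ z').2 hz')
  have hF1 : F ∈ Cyc.Zk C δ 1 := fun y hy => by rw [hF]; exact if_neg hy
  obtain ⟨L, hL, hdL, hxL⟩ := exists_line_point hd hδ hdim hF hz hPz hP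
  obtain ⟨L', hL', hdL', hxL'⟩ := exists_line_point hd hδ hdim hF hz' hPz' hP'
  let Ψ : Additive (PicLoc.PicSet C) →+ Tot C δ := AddMonoidHom.mk'
    (fun q => x1 hd (isInvertible_rep (Additive.toMul q)) (emb δ 1 F)) fun q q' => by
      have h : PicF.cl (rep (Additive.toMul q * Additive.toMul q')) =
          PicF.cl (CohB1.tensorMod (rep (Additive.toMul q)) (rep (Additive.toMul q'))) := by
        rw [cl_rep, ← PicGrp.mulCl_cl, cl_rep, cl_rep, PicGrp.mul_val]
      obtain ⟨i⟩ := (PicGrp.cl_eq_cl_iff _ _).1 h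
      show x1 hd (isInvertible_rep (Additive.toMul q * Additive.toMul q')) (emb δ 1 F) = _
      rw [x1_congr hd _ (Groth.L18.GenLoc.isInvertible_tensor (isInvertible_rep _) (isInvertible_rep _)) i,
        x1_tensor hd]
      rfl
  have hΨ : ∀ (M : C.Modules) (hM : PicF.IsInvertible M),
      Ψ (Additive.ofMul (PicGrp.cls M hM)) = x1 hd hM (emb δ 1 F) := fun M hM => by
    obtain ⟨i⟩ := (PicGrp.cl_eq_cl_iff _ _).1 (cl_rep (PicGrp.cls M hM))
    show x1 hd (isInvertible_rep (PicGrp.cls M hM)) (emb δ 1 F) = _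
    rw [x1_congr hd _ hM i]
  obtain ⟨d, hdv, -, hdiv⟩ := Groth.L21.CurveKummer.exists_degHom' k C hdim
  obtain ⟨q, hq⟩ := hdiv (Additive.ofMul (PicGrp.cls L hL) - Additive.ofMul (PicGrp.cls L' hL'))
    (by rw [map_sub, hdv, hdv, hdL, hdL', sub_self]) N hN
  let u := sec (isInvertible_rep (Additive.toMul q))
  let β := pw hd (isInvertible_rep (Additive.toMul q)) (sec_ne (isInvertible_rep (Additive.toMul q))) 1 F
  have hβ : β ∈ Cyc.Zk C δ 0 := by
    simpa using pw_mem hd (isInvertible_rep (Additive.toMul q)) (sec_ne _) hF1 1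
  refine ⟨β, hβ, rat_of_emb_eq hd ((ChowOps.zk C δ 0).sub_mem hP0 hP0') ((ChowOps.zk C δ 0).nsmul_mem hβ N) ?_⟩
  have hq' : Ψ q = emb δ 0 β := by
    show x1 hd (isInvertible_rep (Additive.toMul q)) (emb δ 1 F) = _
    rw [x1_emb hd _ (sec_ne _) hF1]
    rfl
  have h3 := congrArg Ψ hq
  rw [map_nsmul, map_sub, hΨ, hΨ, hq', hxL, hxL'] at h3
  rw [← natCast_zsmul, Groth.L22.Chern.emb_zsmul _ hβ, natCast_zsmul, h3]
  have h4 := Groth.L22.Chern.emb_add ((ChowOps.zk C δ 0).sub_mem hP0 hP0') hP0'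
  rw [sub_add_cancel] at h4
  rw [h4, add_sub_cancel_right]

end Groth.L22.DiagDec
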