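import Groth.Agent.L22.DiagDec.Special
import Groth.Agent.L22.DiagDec.Alg
import Groth.Agent.L22.RatDescent.Steps
import Groth.Agent.L22.Translate.Family
import Groth.Agent.L22.SymCorr.Residue
import Groth.Agent.L03.FtPts
import Groth.Agent.L08.Cube.SmoothStalk

/-!
The action of a decomposition of the diagonal on points with values in fields.
-/

set_option autoImplicit false
set_option linter.style.haveILetI false
set_option linter.unusedSectionVars false
set_option maxSynthPendingDepth 3
set_option synthInstance.maxHeartbeats 400000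
set_option backward.isDefEq.respectTransparency false
set_option backward.isDefEq.respectTransparency.types false

universe u

open CategoryTheory CategoryTheory.Limits AlgebraicGeometry TopologicalSpace
open Groth.L22.Chern (Shift pullC pullC_coe pullC_apply pullC_mem pullC_rat ratGroup)
open Groth.L22.Sp (eta sp dR)
open Groth.L22.RatDescent (fieldMap shift_fieldMap shift_bc setup_over_field)

noncomputable section

namespace Groth.L22.DiagDec

theorem surjective_of_isPreimmersion {K L : Type u} [Field K] [Field L] (φ : CommRingCat.of K ⟶ CommRingCat.of L)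
    [IsPreimmersion (Spec.map φ)] : Function.Surjective φ.hom := by
  haveI : IsClosedImmersion (Spec.map φ) := IsClosedImmersion.of_isPreimmersion _ (by
    haveI : Subsingleton ↥(Spec (CommRingCat.of K)) := inferInstanceAs (Subsingleton (PrimeSpectrum K))
    rw [show Set.range (Spec.map φ) = Set.univ from Set.eq_univ_of_forall fun y =>
      ⟨IsLocalRing.closedPoint L, Subsingleton.elim _ _⟩]
    exact isClosed_univ)
  have h2 := (IsClosedImmersion.isAffine_surjective_of_isAffine (Spec.map φ)).2
  have h3 : φ = (Scheme.ΓSpecIso _).inv ≫ (Spec.map φ).appTop ≫ (Scheme.ΓSpecIso _).hom := by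
    rw [Scheme.ΓSpecIso_naturality, Iso.inv_hom_id_assoc]
  rw [h3, CommRingCat.hom_comp, CommRingCat.hom_comp, RingHom.coe_comp, RingHom.coe_comp]
  exact ((ConcreteCategory.bijective_of_isIso _).2.comp h2).comp (ConcreteCategory.bijective_of_isIso _).2

/-- The multiplicity of a base change at a point of an integral one-point preimage. -/
theorem mult_point_baseChange {L : Type u} [Field L] {W W' T' : Scheme.{u}} [IsIntegral T'] [Subsingleton T']
    {σ : Spec (CommRingCat.of L) ⟶ W} [IsPreimmersion σ] {q : W' ⟶ W} {σ' : T' ⟶ W'}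
    {u : T' ⟶ Spec (CommRingCat.of L)} (sq : IsPullback σ' u q σ) (t : T') :
    Groth.L22.Cyc.mult q (σ' t) = 1 := by
  let pt := IsLocalRing.closedPoint L
  haveI := Groth.L03.FtPts.isIso_fromSpecResidueField_field L pt
  haveI : IsIso (σ.residueFieldMap pt) :=
    (ConcreteCategory.isIso_iff_bijective _).2 (Groth.L22.FibreDim.residueFieldMap_bijective σ pt)
  let θ := asIso (Spec.map (σ.residueFieldMap pt))
  let ζ := asIso ((Spec (CommRingCat.of L)).fromSpecResidueField pt)
  have hθ : W.fromSpecResidueField (σ pt) = (θ.symm ≪≫ ζ).hom ≫ σ := by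
    show _ = (θ.inv ≫ ζ.hom) ≫ σ
    rw [Category.assoc, ← cancel_epi θ.hom, Iso.hom_inv_id_assoc]
    exact σ.SpecMap_residueFieldMap_fromSpecResidueField pt
  have sq2 : IsPullback σ' (u ≫ (θ.symm ≪≫ ζ).inv) q (W.fromSpecResidueField (σ pt)) := by
    rw [hθ]
    refine sq.of_iso (Iso.refl _) (Iso.refl _) (θ.symm ≪≫ ζ).symm (Iso.refl _) ?_ ?_ ?_ ?_
    all_goals simp
  let e := sq2.isoPullback
  have he : e.hom ≫ q.fiberι (σ pt) = σ' := sq2.isoPullback_hom_fst
  haveI : Subsingleton ↥(q.fiber (σ pt)) := e.inv.homeomorph.injective.subsingleton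
  haveI : IsIntegral (q.fiber (σ pt)) := by
    haveI : Nonempty ↥(q.fiber (σ pt)) := ⟨e.hom t⟩
    exact isIntegral_of_isOpenImmersion e.inv
  rw [← he, Scheme.Hom.comp_apply, Subsingleton.elim (α := ↥(q.fiber (σ pt))) (e.hom t) (genericPoint ↥(q.fiber (σ pt)))]
  exact mult_eq_one_of_fiber q (σ pt)
where
  mult_eq_one_of_fiber {W U : Scheme.{u}} (f : W ⟶ U) (v : U) [IsIntegral (f.fiber v)] :
      Groth.L22.Cyc.mult f (f.fiberι v (genericPoint (f.fiber v))) = 1 := by
    rw [← Groth.L22.Cyc.length_stalk_fiber]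
    letI : Field ((f.fiber v).presheaf.stalk (genericPoint (f.fiber v))) :=
      inferInstanceAs (Field (f.fiber v).functionField)
    rw [Module.length_eq_one_iff]
    infer_instance

variable {F : Type u} [Field F] {V : Scheme.{u}} (p : V ⟶ Spec (CommRingCat.of F)) [IsProper p]
  (δV : V → ℤ) (N : ℕ) (m : ℤ) (Pv : AlgebraicCycle V ℤ)

/-- The decomposition holds at a point with values in a field. -/
def Good (L : Type u) [Field L] (x : Spec (CommRingCat.of L) ⟶ V) : Prop :=
  ∀ (W : Scheme.{u}) (f : W ⟶ V) (gW : W ⟶ Spec (CommRingCat.of L)) (_ : IsPullback f gW p (x ≫ p))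
    [IsLocallyNoetherian W] (δW : W → ℤ) (_ : Cyc.DeltaCompat gW δW fun _ => 0) (hc : Shift f δW δV 0)
    (σ : Spec (CommRingCat.of L) ⟶ W) (_ : σ ≫ f = x) (_ : σ ≫ gW = 𝟙 _) (P : AlgebraicCycle W ℤ)
    (_ : P (σ (IsLocalRing.closedPoint L)) = 1) (_ : ∀ y, y ≠ σ (IsLocalRing.closedPoint L) → P y = 0),
    Cyc.RatEquivZero δW 0 ((N : ℤ) • P - m • pullC f hc Pv)

variable {p δV N m Pv} (hδV : Cyc.DeltaCompat p δV fun _ => 0)

include hδV in
/-- Extension of the field. -/
theorem good_ext {L L' : Type u} [Field L] [Field L'] [Algebra L L'] {x : Spec (CommRingCat.of L) ⟶ V}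
    (h : Good p δV N m Pv L x) : Good p δV N m Pv L' (fieldMap L L' ≫ x) := by
  intro W' f' gW' sq' _ δW' hδW' hc' σ' hσf' hσg' P' hP1' hP'
  classical
  let W := pullback p (x ≫ p)
  let f : W ⟶ V := pullback.fst _ _
  let gW : W ⟶ Spec (CommRingCat.of L) := pullback.snd _ _
  have sq : IsPullback f gW p (x ≫ p) := IsPullback.of_hasPullback _ _
  obtain ⟨δW, hsW, hδW⟩ := Groth.L22.Cyc.exists_setup gW (Groth.L22.SymCorr.isSetup_field L)
  haveI := hsW.1
  have hc : Shift f δW δV 0 := shift_bc sq (fun _ _ => (add_zero _).symm) hδV hδW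
  let σ : Spec (CommRingCat.of L) ⟶ W := pullback.lift x (𝟙 _) (by rw [Category.id_comp])
  have hσf : σ ≫ f = x := pullback.lift_fst _ _ _
  have hσg : σ ≫ gW = 𝟙 _ := pullback.lift_snd _ _ _
  haveI : IsPreimmersion σ := by
    haveI : IsClosedImmersion (σ ≫ gW) := by rw [hσg]; infer_instance
    haveI : IsClosedImmersion σ := IsClosedImmersion.of_comp σ gW
    infer_instance
  let q : W' ⟶ W := pullback.lift f' (gW' ≫ fieldMap L L') (by rw [sq'.w]; simp only [Category.assoc])
  have hqf : q ≫ f = f' := pullback.lift_fst _ _ _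
  have hqg : q ≫ gW = gW' ≫ fieldMap L L' := pullback.lift_snd _ _ _
  have sqq : IsPullback q gW' gW (fieldMap L L') := by
    refine IsPullback.of_right ?_ hqg sq
    rw [hqf, ← Category.assoc]
    exact sq'
  have hσq : σ' ≫ q = fieldMap L L' ≫ σ := by
    apply pullback.hom_ext
    · show (σ' ≫ q) ≫ f = (fieldMap L L' ≫ σ) ≫ f
      rw [Category.assoc, hqf, hσf', Category.assoc, hσf]
    · show (σ' ≫ q) ≫ gW = (fieldMap L L' ≫ σ) ≫ gW
      rw [Category.assoc, hqg, ← Category.assoc, hσg', Category.id_comp, Category.assoc, hσg, Category.comp_id]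
  have sqσ : IsPullback σ' (fieldMap L L') q σ := by
    refine IsPullback.of_right ?_ hσq sqq.flip
    rw [hσg', hσg]
    exact IsPullback.of_horiz_isIso ⟨by simp⟩
  haveI : Subsingleton ↥(Spec (CommRingCat.of L')) := inferInstanceAs (Subsingleton (PrimeSpectrum L'))
  haveI : Subsingleton ↥(Spec (CommRingCat.of L)) := inferInstanceAs (Subsingleton (PrimeSpectrum L))
  have hcq : Shift q δW' δW 0 := shift_bc sqq (shift_fieldMap L L') hδW hδW'
  haveI : Flat (fieldMap L L') := Groth.L07.SyntOverField.flat_over_field _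
  haveI : Flat q := MorphismProperty.of_isPullback sqq.flip ‹Flat (fieldMap L L')›
  haveI : LocallyOfFiniteType gW' := MorphismProperty.of_isPullback sq' inferInstance
  let P : AlgebraicCycle W ℤ := Function.locallyFinsuppWithin.single (σ (IsLocalRing.closedPoint L)) (1 : ℤ)
  have h0 := h W f gW sq δW hδW hc σ hσf hσg P (by simp [P])
    (fun y hy => by simp [P, Function.locallyFinsuppWithin.single_apply, hy])
  have h1 := pullC_rat q hcq (setup_over_field gW' hδW').2.2 hsW.2.2 (k := 0) h0
  rw [add_zero, map_sub, map_zsmul, map_zsmul] at h1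
  have e1 : pullC q hcq P = P' := Function.locallyFinsuppWithin.ext fun y => by
    rw [pullC_apply]
    by_cases hy : y = σ' (IsLocalRing.closedPoint L')
    · subst hy
      rw [mult_point_baseChange sqσ, hP1', ← Scheme.Hom.comp_apply, hσq, Scheme.Hom.comp_apply,
        Subsingleton.elim (fieldMap L L' (IsLocalRing.closedPoint L')) (IsLocalRing.closedPoint L)]
      simp [P]
    · rw [hP' y hy]
      suffices hq : q y ≠ σ (IsLocalRing.closedPoint L) by
        simp [P, Function.locallyFinsuppWithin.single_apply, hq]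
      intro hq
      obtain ⟨t, ht, -⟩ := Scheme.exists_preimage_of_isPullback sqσ y (IsLocalRing.closedPoint L) hq
      exact hy (ht.symm.trans (congrArg _ (Subsingleton.elim _ _)))
  have e2 : pullC q hcq (pullC f hc Pv) = pullC f' hc' Pv := Function.locallyFinsuppWithin.ext fun y => by
    rw [pullC_apply, pullC_apply, pullC_apply, Groth.L22.Cyc.mult_congr f' hqf.symm y, Groth.L22.Cyc.mult_comp,
      ENat.toNat_mul, Nat.cast_mul, ← mul_assoc, ← Scheme.Hom.comp_apply, hqf]
  rw [e1, e2] at h1
  exact h1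

include hδV in
/-- A point with values in a field inherits the property from its residue field. -/
theorem good_of_residue {L : Type u} [Field L] (x : Spec (CommRingCat.of L) ⟶ V) (y : V)
    (hy : x (IsLocalRing.closedPoint L) = y)
    (h : Good p δV N m Pv (V.residueField y) (V.fromSpecResidueField y)) : Good p δV N m Pv L x := by
  subst hy
  letI : Algebra (V.residueField (x (IsLocalRing.closedPoint L))) L :=
    (Scheme.descResidueField (Scheme.stalkClosedPointTo x)).hom.toAlgebra
  have h1 := good_ext hδV (L' := L) h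
  rwa [show fieldMap (V.residueField (x (IsLocalRing.closedPoint L))) L ≫
    V.fromSpecResidueField (x (IsLocalRing.closedPoint L)) = x from
      Scheme.descResidueField_stalkClosedPointTo_fromSpecResidueField L V x] at h1

include hδV in
/-- A preimmersed point gives the property to its residue field. -/
theorem good_residue_of_preimmersion {L : Type u} [Field L] (x : Spec (CommRingCat.of L) ⟶ V) [IsPreimmersion x]
    (h : Good p δV N m Pv L x) : Good p δV N m Pv (V.residueField (x (IsLocalRing.closedPoint L)))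
      (V.fromSpecResidueField (x (IsLocalRing.closedPoint L))) := by
  let ψ := Scheme.descResidueField (Scheme.stalkClosedPointTo x)
  have hψ : Spec.map ψ ≫ V.fromSpecResidueField (x (IsLocalRing.closedPoint L)) = x :=
    Scheme.descResidueField_stalkClosedPointTo_fromSpecResidueField L V x
  haveI : IsPreimmersion (Spec.map ψ ≫ V.fromSpecResidueField (x (IsLocalRing.closedPoint L))) := by
    rw [hψ]; infer_instance
  haveI : IsPreimmersion (Spec.map ψ) :=
    IsPreimmersion.of_comp (Spec.map ψ) (V.fromSpecResidueField (x (IsLocalRing.closedPoint L)))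
  haveI : IsIso ψ := (ConcreteCategory.isIso_iff_bijective _).2
    ⟨RingHom.injective _, surjective_of_isPreimmersion (K := V.residueField (x (IsLocalRing.closedPoint L))) (L := L) ψ⟩
  letI : Algebra L (V.residueField (x (IsLocalRing.closedPoint L))) := (inv ψ).hom.toAlgebra
  have h1 := good_ext hδV (L' := (V.residueField (x (IsLocalRing.closedPoint L)))) h
  have e : fieldMap L (V.residueField (x (IsLocalRing.closedPoint L))) ≫ x =
      V.fromSpecResidueField (x (IsLocalRing.closedPoint L)) :=
    (congrArg (Spec.map (inv ψ) ≫ ·) hψ.symm).trans (by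
      rw [← Category.assoc, ← Spec.map_comp, IsIso.hom_inv_id, Spec.map_id, Category.id_comp])
  rwa [e] at h1

include hδV in
/-- Specialisation along a discrete valuation ring. -/
theorem good_spec {R : Type u} [CommRing R] [IsDomain R] [IsDiscreteValuationRing R]
    (φ : Spec (CommRingCat.of R) ⟶ V) (hPv : Pv ∈ Cyc.Zk V δV 0)
    (h : Good p δV N m Pv (FractionRing R)
      (Spec.map (CommRingCat.ofHom (algebraMap R (FractionRing R))) ≫ φ)) :
    Good p δV N m Pv ((Spec (CommRingCat.of R)).residueField (sp R))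
      ((Spec (CommRingCat.of R)).fromSpecResidueField (sp R) ≫ φ) := by
  intro W f gW sqW _ δW hδW hc σ hσf hσg P hP1 hP
  classical
  let j : Spec (CommRingCat.of (FractionRing R)) ⟶ Spec (CommRingCat.of R) :=
    Spec.map (CommRingCat.ofHom (algebraMap R (FractionRing R)))
  haveI : IsOpenImmersion j := by
    obtain ⟨ϖ, hϖ⟩ := IsDiscreteValuationRing.exists_irreducible R
    haveI := Groth.L01.EtaEtale.isLocalization_away_fractionRing R ϖ hϖ
    exact IsOpenImmersion.of_isLocalization ϖ
  have hjr : ∀ t, j t = eta R := fun t => by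
    refine PrimeSpectrum.ext (Eq.trans ?_ (Groth.L22.Sp.eta_asIdeal R).symm)
    show Ideal.comap (algebraMap R (FractionRing R)) t.asIdeal = ⊥
    rw [(Ideal.eq_bot_or_top t.asIdeal).resolve_right t.2.ne_top]
    exact (RingHom.ker_eq_comap_bot _).symm.trans
      ((RingHom.injective_iff_ker_eq_bot _).1 (IsFractionRing.injective _ _))
  let Y := pullback p (φ ≫ p)
  let fR : Y ⟶ V := pullback.fst _ _
  let a : Y ⟶ Spec (CommRingCat.of R) := pullback.snd _ _
  have sqR : IsPullback fR a p (φ ≫ p) := IsPullback.of_hasPullback _ _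
  obtain ⟨δR, hsR, hδR⟩ := Groth.L22.Cyc.exists_setup a (Groth.L22.Sp.isSetup_base R)
  haveI := hsR.1
  haveI : Flat (φ ≫ p) := Groth.L07.SyntOverField.flat_over_field _
  haveI : Flat fR := MorphismProperty.of_isPullback sqR.flip ‹Flat (φ ≫ p)›
  have hspec : eta R ⤳ sp R := (PrimeSpectrum.le_iff_specializes (eta R) (sp R)).1 (by
    rw [← PrimeSpectrum.asIdeal_le_asIdeal, Groth.L22.Sp.eta_asIdeal]; exact bot_le)
  have he : Shift (φ ≫ p) (dR R) (fun _ => 0) 1 := fun t ht => by
    rcases Groth.L22.Sp.point_cases R t with rfl | rfl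
    · rw [Groth.L22.Sp.dR_eta, zero_add]
    · exact absurd (ht (eta R) (Subsingleton.elim (α := PrimeSpectrum F) _ _) hspec) (Groth.L22.Sp.sp_ne_eta R).symm
  have hcR : Shift fR δR δV 1 := shift_bc sqR he hδV hδR
  let σR : Spec (CommRingCat.of R) ⟶ Y := pullback.lift φ (𝟙 _) (by rw [Category.id_comp])
  have hσRf : σR ≫ fR = φ := pullback.lift_fst _ _ _
  have hσRa : σR ≫ a = 𝟙 _ := pullback.lift_snd _ _ _
  haveI : IsClosedImmersion σR := by
    haveI : IsClosedImmersion (σR ≫ a) := by rw [hσRa]; infer_instance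
    exact IsClosedImmersion.of_comp σR a
  have haσ : ∀ t, a (σR t) = t := fun t => by rw [← Scheme.Hom.comp_apply, hσRa]; rfl
  have hδσ : ∀ t, δR (σR t) = dR R t := fun t => by
    obtain ⟨n, hn, hd⟩ := hδR (σR t)
    have hr := Groth.L22.Cyc.rtrdeg_congr _ hσRa t
    rw [Groth.L22.Cyc.rtrdeg_comp, Groth.L22.Bundle.rtrdeg_eq_zero σR,
      Groth.L22.Bundle.rtrdeg_eq_zero (𝟙 (Spec (CommRingCat.of R))), add_zero] at hr
    have : n = 0 := Nat.cast_eq_zero.1 (hn.symm.trans hr)
    rw [hd, this, haσ]; simp
  have h1δ : δR (σR (eta R)) = δR (σR (sp R)) + 1 := by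
    rw [hδσ, hδσ, Groth.L22.Sp.dR_eta, Groth.L22.Sp.dR_sp, zero_add]
  let S : AlgebraicCycle Y ℤ := Function.locallyFinsuppWithin.single (σR (eta R)) (1 : ℤ)
  let A : AlgebraicCycle Y ℤ := (N : ℤ) • S - m • pullC fR hcR Pv
  have hA : A ∈ Cyc.Zk Y δR (0 + 1) := by
    refine (ChowOps.zk Y δR (0 + 1)).sub_mem ((ChowOps.zk Y δR (0 + 1)).zsmul_mem ?_ _)
      ((ChowOps.zk Y δR (0 + 1)).zsmul_mem (pullC_mem fR hcR hPv) _)
    intro y hy
    show (Function.locallyFinsuppWithin.single (σR (eta R)) (1 : ℤ)) y = 0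
    rw [Function.locallyFinsuppWithin.single_apply, if_neg]
    exact fun e => hy (by rw [e, hδσ, Groth.L22.Sp.dR_eta, zero_add])
  /- the generic fibre -/
  let YK := pullback p ((j ≫ φ) ≫ p)
  let fK : YK ⟶ V := pullback.fst _ _
  let gK : YK ⟶ Spec (CommRingCat.of (FractionRing R)) := pullback.snd _ _
  have sqK : IsPullback fK gK p ((j ≫ φ) ≫ p) := IsPullback.of_hasPullback _ _
  obtain ⟨δK, hsK, hδK⟩ := Groth.L22.Cyc.exists_setup gK (Groth.L22.SymCorr.isSetup_field (FractionRing R))
  haveI := hsK.1
  have hcK : Shift fK δK δV 0 := shift_bc sqK (fun _ _ => (add_zero _).symm) hδV hδK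
  let σK : Spec (CommRingCat.of (FractionRing R)) ⟶ YK := pullback.lift (j ≫ φ) (𝟙 _) (by rw [Category.id_comp])
  let mY : YK ⟶ Y := pullback.lift fK (gK ≫ j) (by rw [sqK.w]; simp only [Category.assoc])
  have hmf : mY ≫ fR = fK := pullback.lift_fst _ _ _
  have hma : mY ≫ a = gK ≫ j := pullback.lift_snd _ _ _
  have sqm : IsPullback mY gK a j := by
    refine IsPullback.of_right ?_ hma sqR
    rw [hmf, ← Category.assoc]
    exact sqK
  haveI : IsOpenImmersion mY := MorphismProperty.of_isPullback sqm.flip ‹IsOpenImmersion j›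
  have hrange : ∀ ξ, a ξ = eta R → ξ ∈ Set.range mY := fun ξ hξ => by
    obtain ⟨y, hy, -⟩ := Scheme.exists_preimage_of_isPullback sqm ξ (IsLocalRing.closedPoint (FractionRing R))
      (by rw [hξ, hjr])
    exact ⟨y, hy⟩
  have hshift : ∀ y, δR (mY y) = δK y + 1 := fun y => by
    obtain ⟨N₁, hN₁, hd⟩ := hδR (mY y)
    obtain ⟨M₁, hM₁, hd'⟩ := hδK y
    rw [show a (mY y) = eta R by rw [← Scheme.Hom.comp_apply, hma, Scheme.Hom.comp_apply, hjr],
      Groth.L22.Sp.dR_eta] at hd
    simp only [zero_add] at hd'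
    have hr := Groth.L22.Cyc.rtrdeg_congr _ hma y
    rw [Groth.L22.Cyc.rtrdeg_comp, Groth.L22.Cyc.rtrdeg_comp, Groth.L22.Bundle.rtrdeg_eq_zero mY,
      Groth.L22.Bundle.rtrdeg_eq_zero j, add_zero, zero_add] at hr
    have : N₁ = M₁ := Nat.cast_injective (R := Cardinal.{u}) ((hN₁.symm.trans hr).trans hM₁)
    omega
  have hσm : mY (σK (IsLocalRing.closedPoint (FractionRing R))) = σR (eta R) := by
    have e : σK ≫ mY = j ≫ σR := by
      apply pullback.hom_ext
      · show (σK ≫ mY) ≫ fR = (j ≫ σR) ≫ fR
        rw [Category.assoc, hmf, Category.assoc, hσRf]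
        exact pullback.lift_fst _ _ _
      · show (σK ≫ mY) ≫ a = (j ≫ σR) ≫ a
        rw [Category.assoc, hma, Category.assoc, hσRa, Category.comp_id, ← Category.assoc,
          show σK ≫ gK = 𝟙 _ from pullback.lift_snd _ _ _, Category.id_comp]
    rw [← Scheme.Hom.comp_apply, e, Scheme.Hom.comp_apply, hjr]
  let SK : AlgebraicCycle YK ℤ :=
    Function.locallyFinsuppWithin.single (σK (IsLocalRing.closedPoint (FractionRing R))) (1 : ℤ)
  have hK := h YK fK gK sqK δK hδK hcK σK (pullback.lift_fst _ _ _) (pullback.lift_snd _ _ _) SK (by simp [SK])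
    (fun y hy => by simp [SK, Function.locallyFinsuppWithin.single_apply, hy])
  have hAK : ∀ y, ((N : ℤ) • SK - m • pullC fK hcK Pv) y = A (mY y) := fun y => by
    have e1 : pullC fK hcK Pv y = pullC fR hcR Pv (mY y) := by
      rw [pullC_apply, pullC_apply, ← Groth.L22.Cyc.mult_congr _ hmf y, Groth.L22.Cyc.mult_comp,
        Groth.L22.Bundle.mult_openImmersion mY, mul_one, ← Scheme.Hom.comp_apply, hmf]
    show (N : ℤ) • SK y - m • pullC fK hcK Pv y = (N : ℤ) • S (mY y) - m • pullC fR hcR Pv (mY y)
    rw [e1]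
    congr 2
    show (Function.locallyFinsuppWithin.single (σK (IsLocalRing.closedPoint (FractionRing R))) (1 : ℤ)) y =
      (Function.locallyFinsuppWithin.single (σR (eta R)) (1 : ℤ)) (mY y)
    rw [Function.locallyFinsuppWithin.single_apply, Function.locallyFinsuppWithin.single_apply, ← hσm]
    by_cases hy : y = σK (IsLocalRing.closedPoint (FractionRing R))
    · subst hy; simp
    · have hy' : mY y ≠ mY (σK (IsLocalRing.closedPoint (FractionRing R))) := fun e =>
        hy (mY.isOpenEmbedding.injective e)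
      simp [hy, hy', Ne.symm hy, Ne.symm hy']
  /- the closed fibre -/
  haveI := Groth.L22.Sp.isClosedImmersion_fiberι a
  haveI : IsLocallyNoetherian (a.fiber (sp R)) := LocallyOfFiniteType.isLocallyNoetherian (a.fiberι (sp R))
  have hdD := Groth.L22.Cyc.isDimFun_closedImmersion (a.fiberι (sp R)) hsR.2.2
  have h1 := gysSp_rat a hsR.2.2 hsR mY hrange hsK.2.2 hshift hA hAK hK hdD
  rw [map_sub, map_zsmul, map_zsmul] at h1
  let k₀ := (Spec (CommRingCat.of R)).fromSpecResidueField (sp R)
  haveI : IsClosedImmersion k₀ := IsClosedImmersion.of_isPreimmersion _ (by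
    rw [Scheme.range_fromSpecResidueField]
    exact (PrimeSpectrum.isClosed_singleton_iff_isMaximal _).2 (IsLocalRing.maximalIdeal.isMaximal R))
  have sqq : IsPullback (a.fiberι (sp R) ≫ fR) (a.fiberToSpecResidueField (sp R)) p (k₀ ≫ φ ≫ p) :=
    ((IsPullback.of_hasPullback a k₀).flip.paste_vert sqR.flip).flip
  haveI : Flat (k₀ ≫ φ ≫ p) := Groth.L07.SyntOverField.flat_over_field _
  haveI : Flat (a.fiberι (sp R) ≫ fR) := MorphismProperty.of_isPullback sqq.flip ‹Flat (k₀ ≫ φ ≫ p)›
  have hδD : Cyc.DeltaCompat (a.fiberToSpecResidueField (sp R)) (fun d => δR (a.fiberι (sp R) d)) fun _ => 0 := by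
    have h := Groth.L22.Cyc.deltaCompat_square (q := a.fiberToSpecResidueField (sp R)) (i := a.fiberι (sp R))
      (j := k₀) (p := a) hδR pullback.condition.symm
    intro d
    obtain ⟨n, hn, hd⟩ := h d
    refine ⟨n, hn, ?_⟩
    simp only at hd ⊢
    rw [hd, show k₀ (a.fiberToSpecResidueField (sp R) d) = sp R from Scheme.fromSpecResidueField_apply _ _,
      Groth.L22.Sp.dR_sp]
  have hcD : Shift (a.fiberι (sp R) ≫ fR) (fun d => δR (a.fiberι (sp R) d)) δV 0 :=
    shift_bc sqq (fun _ _ => (add_zero _).symm) hδV hδD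
  have hg : gysSp a hsR.2.2 (pullC fR hcR Pv) = pullC (a.fiberι (sp R) ≫ fR) hcD Pv := by
    refine Function.locallyFinsuppWithin.ext fun d => ?_
    rw [gysSp, Groth.L22.Chern.gys_apply, pullC_coe, pullC_coe, show (1 : ℤ) = 0 + 1 from rfl]
    refine Groth.L22.RatDescent.gysin_relCartier_shift fR (a.fiberι (sp R))
      (Groth.L18.Ample.isInvertible_structureModule Y) _ hsR (setup_over_field p hδV) 0 hcR (fun y => ?_)
      (Groth.L22.Sp.isZeroSchemeOf a) (fun z hz => hcD z hz) (-1) Pv (by simpa using hPv) _ d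
    haveI : Flat a := MorphismProperty.of_isPullback sqR (Groth.L07.SyntOverField.flat_over_field p)
    have hreg' : Function.Injective fun b : Y.presheaf.stalk y => Groth.L22.Sp.pi a y * b := by
      letI := (a.stalkMap y).hom.toAlgebra
      haveI : Module.Flat ((Spec (CommRingCat.of R)).presheaf.stalk (a y)) (Y.presheaf.stalk y) :=
        Flat.stalkMap a y
      have h : IsSMulRegular (Y.presheaf.stalk y) (Groth.L22.Bundle.gS (a y) (Groth.L22.Sp.unif R)) :=
        Module.Flat.isSMulRegular_of_nonZeroDivisors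
          (mem_nonZeroDivisors_of_ne_zero (Groth.L22.Sp.gS_unif_ne_zero (a y)))
      intro b b' hb
      refine h ?_
      show (a.stalkMap y).hom _ * b = (a.stalkMap y).hom _ * b'
      rw [← Groth.L22.Sp.pi_eq]
      exact hb
    intro b b' hb
    simp only [Groth.L22.Sp.germ_sec, smul_smul] at hb
    refine hreg' ?_
    show Groth.L22.Sp.pi a y * b = Groth.L22.Sp.pi a y * b'
    rw [mul_comm _ b, mul_comm _ b']
    exact (Groth.L22.Sp.isGen_oneGerm y).injective (Groth.L18.Ample.isInvertible_structureModule Y) hb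
  rw [hg] at h1
  /- transport to the given base change -/
  have sqW' : IsPullback f gW p (k₀ ≫ φ ≫ p) := by rw [← Category.assoc]; exact sqW
  let e := sqW'.isoIsPullback _ _ sqq
  have he1 : e.hom ≫ (a.fiberι (sp R) ≫ fR) = f := sqW'.isoIsPullback_hom_fst _ _ sqq
  have he2 : e.hom ≫ a.fiberToSpecResidueField (sp R) = gW := sqW'.isoIsPullback_hom_snd _ _ sqq
  have hδe : δW = fun y => δR (a.fiberι (sp R) (e.hom y)) :=
    Groth.L16.BivarEnv.deltaCompat_unique gW hδW (he2 ▸ Groth.L22.Bundle.deltaCompat_comp e.hom _ hδD)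
  have hce : Shift e.hom δW (fun d => δR (a.fiberι (sp R) d)) 0 := fun y _ => by rw [hδe, add_zero]
  haveI : LocallyOfFiniteType gW := MorphismProperty.of_isPullback sqW inferInstance
  have h2 := pullC_rat e.hom hce (setup_over_field gW hδW).2.2 hdD h1
  rw [add_zero, map_sub, map_zsmul, map_zsmul] at h2
  have hσe : σ ≫ e.hom ≫ a.fiberι (sp R) = k₀ ≫ σR := by
    apply pullback.hom_ext
    · show (σ ≫ e.hom ≫ a.fiberι (sp R)) ≫ fR = (k₀ ≫ σR) ≫ fR
      rw [Category.assoc, Category.assoc, he1, hσf, Category.assoc, hσRf]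
    · show (σ ≫ e.hom ≫ a.fiberι (sp R)) ≫ a = (k₀ ≫ σR) ≫ a
      rw [Category.assoc, Category.assoc, show a.fiberι (sp R) ≫ a = a.fiberToSpecResidueField (sp R) ≫ k₀ from
        pullback.condition, ← Category.assoc e.hom, he2, ← Category.assoc, hσg, Category.id_comp, Category.assoc,
        hσRa, Category.comp_id]
  have hpt : a.fiberι (sp R) (e.hom (σ (IsLocalRing.closedPoint _))) = σR (sp R) := by
    rw [← Scheme.Hom.comp_apply e.hom, ← Scheme.Hom.comp_apply σ, hσe, Scheme.Hom.comp_apply]
    exact congrArg σR (Scheme.fromSpecResidueField_apply _ _)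
  have e1 : pullC e.hom hce (gysSp a hsR.2.2 S) = P := Function.locallyFinsuppWithin.ext fun y => by
    rw [pullC_apply, Groth.L22.Bundle.mult_openImmersion]
    obtain ⟨g1, g0⟩ := gysSp_section a hsR.2.2 σR hσRa h1δ (A := S) (by simp [S])
      (fun t ht => by
        show (Function.locallyFinsuppWithin.single (σR (eta R)) (1 : ℤ)) t = 0
        rw [Function.locallyFinsuppWithin.single_apply]
        exact if_neg ht) (e.hom y)
    by_cases hy : y = σ (IsLocalRing.closedPoint _)
    · rw [hy, hP1]; rw [hy] at g1; rw [g1 hpt]; simp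
    · rw [hP y hy, g0 fun h => hy (e.hom.isOpenEmbedding.injective
        ((a.fiberι (sp R)).isEmbedding.injective (h.trans hpt.symm)))]
      simp
  have e2 : pullC e.hom hce (pullC (a.fiberι (sp R) ≫ fR) hcD Pv) = pullC f hc Pv :=
    Function.locallyFinsuppWithin.ext fun y => by
      rw [pullC_apply, pullC_apply, pullC_apply, Groth.L22.Cyc.mult_congr f he1.symm y,
        Groth.L22.Cyc.mult_comp e.hom (a.fiberι (sp R) ≫ fR), Groth.L22.Bundle.mult_openImmersion e.hom, mul_one, ← Scheme.Hom.comp_apply e.hom, he1]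
      simp
  rw [e1, e2] at h2
  exact h2

include hδV in
/-- The property at the generic point spreads to every point of a regular variety. -/
theorem good_all [IsIntegral V] [Smooth p] (hPv : Pv ∈ Cyc.Zk V δV 0)
    (hη : Good p δV N m Pv (V.residueField (genericPoint V)) (V.fromSpecResidueField (genericPoint V))) (y : V) :
    Good p δV N m Pv (V.residueField y) (V.fromSpecResidueField y) := by
  suffices ∀ (n : ℕ) (y : V), δV (genericPoint V) - δV y ≤ n →
      Good p δV N m Pv (V.residueField y) (V.fromSpecResidueField y) from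
    this (δV (genericPoint V) - δV y).toNat y (Int.self_le_toNat _)
  have hd := (setup_over_field p hδV).2.2
  intro n
  induction n using Nat.strong_induction_on with
  | _ n ih =>
    intro y hy
    by_cases hyη : y = genericPoint V
    · subst hyη; exact hη
    haveI := Groth.L08.Cube.isRegularLocalRing_of_smooth p y
    have hηy : genericPoint V ⤳ y := (genericPoint_spec V).specializes trivial
    have hnf : ¬ IsField (V.presheaf.stalk y) := fun hf => by
      letI := hf.toField
      haveI : Subsingleton ↥(Spec (V.presheaf.stalk y)) :=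
        inferInstanceAs (Subsingleton (PrimeSpectrum (V.presheaf.stalk y)))
      obtain ⟨t, ht⟩ : genericPoint V ∈ Set.range (V.fromSpecStalk y) := by
        rw [V.range_fromSpecStalk]; exact hηy
      rw [Subsingleton.elim t (IsLocalRing.closedPoint _), Scheme.fromSpecStalk_closedPoint] at ht
      exact hyη ht
    obtain ⟨P, _, _⟩ := exists_dvr_quotient (V.presheaf.stalk y) hnf
    let φ : Spec (CommRingCat.of (V.presheaf.stalk y ⧸ P)) ⟶ V :=
      Spec.map (CommRingCat.ofHom (Ideal.Quotient.mk P)) ≫ V.fromSpecStalk y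
    haveI : IsClosedImmersion (Spec.map (CommRingCat.ofHom (Ideal.Quotient.mk P))) :=
      IsClosedImmersion.spec_of_surjective _ Ideal.Quotient.mk_surjective
    haveI : IsPreimmersion φ := inferInstance
    have hφsp : φ (sp (V.presheaf.stalk y ⧸ P)) = y := by
      refine Eq.trans ?_ (V.fromSpecStalk_closedPoint (x := y))
      refine congrArg (V.fromSpecStalk y) (PrimeSpectrum.ext ?_)
      exact IsLocalRing.eq_maximalIdeal (Ideal.comap_isMaximal_of_surjective _ Ideal.Quotient.mk_surjective
        (K := IsLocalRing.maximalIdeal (V.presheaf.stalk y ⧸ P)))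
    let R := V.presheaf.stalk y ⧸ P
    let j : Spec (CommRingCat.of (FractionRing R)) ⟶ Spec (CommRingCat.of R) :=
      Spec.map (CommRingCat.ofHom (algebraMap R (FractionRing R)))
    let y' := (j ≫ φ) (IsLocalRing.closedPoint (FractionRing R))
    have hjt : j (IsLocalRing.closedPoint (FractionRing R)) = eta R := by
      refine PrimeSpectrum.ext (Eq.trans ?_ (Groth.L22.Sp.eta_asIdeal R).symm)
      show Ideal.comap (algebraMap R (FractionRing R)) (IsLocalRing.maximalIdeal (FractionRing R)) = ⊥
      rw [IsLocalRing.maximalIdeal_eq_bot]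
      exact (RingHom.ker_eq_comap_bot _).symm.trans
        ((RingHom.injective_iff_ker_eq_bot _).1 (IsFractionRing.injective _ _))
    have hy'y : y' ⤳ y := by
      rw [← hφsp]
      show φ (j _) ⤳ φ _
      rw [hjt]
      exact ((PrimeSpectrum.le_iff_specializes (eta R) (sp R)).1 (by
        rw [← PrimeSpectrum.asIdeal_le_asIdeal, Groth.L22.Sp.eta_asIdeal]; exact bot_le)).map φ.continuous
    have hne : y' ≠ y := fun e => by
      rw [← hφsp] at e
      change φ (j _) = φ _ at e
      rw [hjt] at e
      exact (Groth.L22.Sp.sp_ne_eta R).symm (φ.isEmbedding.injective e)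
    have hlt := (hd y' y hy'y hne).1
    have hle : δV y' ≤ δV (genericPoint V) := by
      by_cases e : genericPoint V = y'
      · rw [e]
      · exact (hd (genericPoint V) y' ((genericPoint_spec V).specializes trivial) e).1.le
    have hgood' : Good p δV N m Pv (V.residueField y') (V.fromSpecResidueField y') :=
      ih (δV (genericPoint V) - δV y').toNat (by omega) y' (Int.self_le_toNat _)
    have h1 := good_spec hδV φ hPv (good_of_residue hδV (j ≫ φ) y' rfl hgood')
    haveI : IsPreimmersion ((Spec (CommRingCat.of R)).fromSpecResidueField (sp R) ≫ φ) := inferInstance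
    have key : ∀ z, z = y → Good p δV N m Pv (V.residueField z) (V.fromSpecResidueField z) →
        Good p δV N m Pv (V.residueField y) (V.fromSpecResidueField y) := by
      rintro z rfl h; exact h
    refine key _ ?_ (good_residue_of_preimmersion hδV _ h1)
    exact (Scheme.Hom.comp_apply _ φ _).trans ((congrArg φ (Scheme.fromSpecResidueField_apply _ _)).trans hφsp)

end Groth.L22.DiagDec
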