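import Groth.Agent.L22.DiagDec.Good
import Groth.Agent.L22.DiagDec.Chain
import Groth.Agent.L00.EquidimFlat
import Groth.Agent.L05.PtSeq.Trans
import Groth.Agent.L05.Point.UnramFlat
import Groth.Agent.L22.Chern.CurveClass
import Groth.Agent.L22.Chern.Classes
import Mathlib.AlgebraicGeometry.Geometrically.Integral

/-!
A decomposition of the diagonal annihilates zero-cycles of degree zero after every algebraically closed extension.
-/

set_option autoImplicit false
set_option linter.style.haveILetI false
set_option maxSynthPendingDepth 3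
set_option synthInstance.maxHeartbeats 400000
set_option backward.isDefEq.respectTransparency false
set_option backward.isDefEq.respectTransparency.types false

universe u

open CategoryTheory CategoryTheory.Limits AlgebraicGeometry TopologicalSpace
open Groth.L22.Chern (Shift pullC pullC_coe pullC_apply pullC_mem pullC_rat ratGroup pushC pushC_eq)
open Groth.L22.RatDescent (shift_bc setup_over_field)

noncomputable section

namespace Groth.L22.DiagDec

section

variable {F : Type u} [Field F] {V : Scheme.{u}} (p : V ⟶ Spec (CommRingCat.of F)) [IsProper p]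
  {δV : V → ℤ} (hδV : Cyc.DeltaCompat p δV fun _ => 0)

include hδV in
theorem delta_generic_eq [IsIntegral V] {d : ℕ} (hd : topologicalKrullDim V = d) :
    δV (genericPoint V) = d := by
  obtain ⟨a, b, ha, hb, hab⟩ := Groth.L00.EquidimFlat.point_data' F p (d : WithBot ℕ∞) (fun Z hZ => by
    rw [irreducibleComponents_eq_singleton, Set.mem_singleton_iff] at hZ
    subst hZ
    rw [← hd]
    exact (Homeomorph.Set.univ _).isHomeomorph.topologicalKrullDim_eq) (genericPoint V)
  have h0 : ringKrullDim (V.presheaf.stalk (genericPoint V)) = 0 := by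
    letI : Field (V.presheaf.stalk (genericPoint V)) := inferInstanceAs (Field V.functionField)
    exact ringKrullDim_eq_zero_of_field _
  rw [h0] at hb
  have hb0 : b = 0 := by exact_mod_cast hb.symm
  subst hb0
  obtain ⟨n, hn, hdn⟩ := hδV (genericPoint V)
  have : n = a := Nat.cast_injective (R := Cardinal.{u}) (hn.symm.trans ha)
  rw [hdn, this, zero_add]
  have h3 : a = d := by
    rw [add_zero] at hab
    exact_mod_cast hab.symm
  exact_mod_cast h3

include hδV in
theorem delta_closed_eq {v : V} (hv : IsClosed ({v} : Set V)) : δV v = 0 := by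
  haveI : Subsingleton ↥(Spec (CommRingCat.of F)) := inferInstanceAs (Subsingleton (PrimeSpectrum F))
  haveI := Groth.L05.PtSeq.isFinite_fromSpecResidueField p hv
    (by convert isClosed_univ using 1; exact Set.eq_univ_of_forall fun z => Subsingleton.elim _ _)
  have h := Groth.L22.SymCorr.rtrdeg_eq_zero (V.fromSpecResidueField v ≫ p)
    (IsLocalRing.closedPoint (V.residueField v))
  rw [Groth.L22.Cyc.rtrdeg_comp, Scheme.fromSpecResidueField_apply,
    Groth.L22.Bundle.rtrdeg_eq_zero (V.fromSpecResidueField v), add_zero] at h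
  obtain ⟨n, hn, hdn⟩ := hδV v
  have : n = 0 := Nat.cast_eq_zero.1 (hn.symm.trans h)
  rw [hdn, this]; simp

include hδV in
/-- The decomposition gives the property at the generic point. -/
theorem good_generic [IsIntegral V] [Smooth p] [GeometricallyIntegral p] {d : ℕ} (hd : topologicalKrullDim V = d)
    (v : V) (hv : IsClosed ({v} : Set V)) (δ : ↥(pullback p p) → ℤ)
    (hδ : Cyc.DeltaCompat (pullback.fst p p ≫ p) δ fun _ => 0) (hS : Cyc.IsSetup (pullback p p) δ)
    (cΔ : AlgebraicCycle (pullback p p) ℤ) (hcΔ : ⇑cΔ = Cyc.subschemeFun δ d (pullback.diagonal p))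
    (N : ℕ) (Γ₁ Γ₂ : AlgebraicCycle (pullback p p) ℤ)
    (hsupp₁ : ∀ x : ↥(pullback p p), Γ₁ x ≠ 0 → pullback.snd p p x = v)
    (D : Set V) (hD : IsClosed D) (hDne : D ≠ Set.univ)
    (hsupp₂ : ∀ x : ↥(pullback p p), Γ₂ x ≠ 0 → pullback.fst p p x ∈ D)
    (hdec : Cyc.RatEquiv δ d (N • cΔ) (Γ₁ + Γ₂)) (Pv : AlgebraicCycle V ℤ) (hPv1 : Pv v = 1)
    (hPv0 : ∀ y, y ≠ v → Pv y = 0) :
    ∃ m : ℤ, Good p δV N m Pv (V.residueField (genericPoint V)) (V.fromSpecResidueField (genericPoint V)) := by
  classical
  haveI := hS.1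
  let η := genericPoint V
  let x := V.fromSpecResidueField η
  have hδη := delta_generic_eq p hδV hd
  have hVd := (setup_over_field p hδV).2.2
  have hδfst : Cyc.DeltaCompat (pullback.fst p p) δ δV :=
    Groth.L22.Bundle.deltaCompat_cancel _ p hδ hδV
  let g : ↥((pullback.snd p p).fiber v) := genericPoint ((pullback.snd p p).fiber v)
  let z₀ : ↥(pullback p p) := (pullback.snd p p).fiberι v g
  refine ⟨Γ₁ z₀, ?_⟩
  intro W f gW sqW _ δW hδW hc σ hσf hσg P hP1 hP
  have hxη : ∀ t, x t = η := fun t => Scheme.fromSpecResidueField_apply _ _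
  let ψ : W ⟶ pullback p p := pullback.lift (gW ≫ x) f (by rw [Category.assoc, sqW.w])
  have hψ1 : ψ ≫ pullback.fst p p = gW ≫ x := pullback.lift_fst _ _ _
  have hψ2 : ψ ≫ pullback.snd p p = f := pullback.lift_snd _ _ _
  have sqψ : IsPullback ψ gW (pullback.fst p p) x := by
    refine IsPullback.of_right ?_ hψ1 (IsPullback.of_hasPullback p p).flip
    rw [hψ2]
    exact sqW
  haveI : Flat x := by
    haveI : IsIso (V.residue η) := (ConcreteCategory.isIso_iff_bijective _).2 ⟨by
      letI : Field (V.presheaf.stalk η) := inferInstanceAs (Field V.functionField)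
      exact RingHom.injective _, V.residue_surjective η⟩
    haveI := Groth.L05.Point.flat_fromSpecStalk η
    show Flat (Spec.map (V.residue η) ≫ V.fromSpecStalk η)
    infer_instance
  haveI : Flat ψ := MorphismProperty.of_isPullback sqψ.flip ‹Flat x›
  haveI : IsPreimmersion ψ := MorphismProperty.of_isPullback sqψ.flip (inferInstanceAs (IsPreimmersion x))
  have hψfst : ∀ w, pullback.fst p p (ψ w) = η := fun w => by
    rw [← Scheme.Hom.comp_apply, hψ1, Scheme.Hom.comp_apply]
    exact hxη _
  have hψsnd : ∀ w, pullback.snd p p (ψ w) = f w := fun w => by rw [← Scheme.Hom.comp_apply, hψ2]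
  have hcx : Shift x (fun _ => (0 : ℤ)) δV (-(d : ℤ)) := fun t _ => by rw [hxη, hδη, add_neg_cancel]
  have hcψ : Shift ψ δW δ (-(d : ℤ)) := shift_bc sqψ hcx hδfst hδW
  have hWd : Cyc.IsDimFun W δW := by
    haveI : LocallyOfFiniteType gW := MorphismProperty.of_isPullback sqW inferInstance
    exact (setup_over_field gW hδW).2.2
  have h1 := pullC_rat ψ hcψ hWd hS.2.2 (k := (d : ℤ)) hdec
  rw [add_neg_cancel, map_sub, map_nsmul, map_add] at h1
  /- the diagonal -/
  have hσψ : σ ≫ ψ = x ≫ pullback.diagonal p := by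
    apply pullback.hom_ext
    · rw [Category.assoc, hψ1, ← Category.assoc, hσg, Category.id_comp, Category.assoc,
        pullback.diagonal_fst, Category.comp_id]
    · rw [Category.assoc, hψ2, hσf, Category.assoc, pullback.diagonal_snd, Category.comp_id]
  have hσpt : ψ (σ (IsLocalRing.closedPoint _)) = pullback.diagonal p η := by
    rw [← Scheme.Hom.comp_apply, hσψ, Scheme.Hom.comp_apply]
    exact congrArg (pullback.diagonal p) (hxη _)
  have hδΔ : δ (pullback.diagonal p η) = d := by
    have h := Groth.L22.Bundle.deltaCompat_comp (pullback.diagonal p) (pullback.fst p p ≫ p) hδ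
    rw [pullback.diagonal_fst_assoc] at h
    rw [← hδη, Groth.L16.BivarEnv.deltaCompat_unique p hδV h]
  have eΔ : pullC ψ hcψ cΔ = P := Function.locallyFinsuppWithin.ext fun y => by
    rw [pullC_apply, mult_preimmersion ψ]
    simp only [ENat.toNat_one, Nat.cast_one, mul_one]
    rw [hcΔ, Cyc.subschemeFun]
    by_cases hy : y = σ (IsLocalRing.closedPoint _)
    · subst hy
      rw [hP1, hσpt, if_pos hδΔ,
        show {z : V | pullback.diagonal p z = pullback.diagonal p η} = {η} from
          Set.eq_singleton_iff_unique_mem.2 ⟨rfl, fun z hz => by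
            have h := congrArg (pullback.fst p p) hz
            rwa [← Scheme.Hom.comp_apply, ← Scheme.Hom.comp_apply, pullback.diagonal_fst] at h⟩,
        finsum_mem_singleton]
      have hlen : Module.length (V.presheaf.stalk η) (V.presheaf.stalk η) = 1 := by
        letI : Field (V.presheaf.stalk η) := inferInstanceAs (Field V.functionField)
        rw [Module.length_eq_one_iff]
        infer_instance
      rw [hlen]; simp
    · rw [hP y hy]
      refine ite_eq_right_iff.2 fun _ => finsum_mem_eq_zero_of_forall_eq_zero fun z hz => ?_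
      exfalso
      apply hy
      apply ψ.isEmbedding.injective
      rw [hσpt]
      have hz' : pullback.diagonal p z = ψ y := hz
      rw [← hz']
      congr 1
      have h := congrArg (pullback.fst p p) hz'
      rwa [hψfst, ← Scheme.Hom.comp_apply, pullback.diagonal_fst] at h
  /- the vertical part -/
  have e2 : pullC ψ hcψ Γ₂ = 0 := Function.locallyFinsuppWithin.ext fun y => by
    rw [pullC_apply]
    by_cases h : Γ₂ (ψ y) = 0
    · rw [h, zero_mul]; rfl
    · exfalso
      refine hDne (Set.eq_univ_of_forall fun z => ?_)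
      have hη : η ∈ D := hψfst y ▸ hsupp₂ _ h
      exact ((genericPoint_spec V).specializes trivial).mem_closed hD hη
  /- the horizontal part -/
  let k₀ := V.fromSpecResidueField v
  haveI : IsFinite (k₀ ≫ p) := Groth.L05.PtSeq.isFinite_fromSpecResidueField p hv (by
    haveI : Subsingleton ↥(Spec (CommRingCat.of F)) := inferInstanceAs (Subsingleton (PrimeSpectrum F))
    convert isClosed_univ using 1; exact Set.eq_univ_of_forall fun z => Subsingleton.elim _ _)
  let h := (pullback.snd p p).fiberι v ≫ pullback.fst p p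
  have sqh : IsPullback h ((pullback.snd p p).fiberToSpecResidueField v) p (k₀ ≫ p) :=
    ((IsPullback.of_hasPullback (pullback.snd p p) k₀).flip.paste_vert (IsPullback.of_hasPullback p p).flip).flip
  haveI : IsFinite h := MorphismProperty.of_isPullback sqh.flip ‹IsFinite (k₀ ≫ p)›
  have huniq : ∀ q, h q = η → q = g := by
    intro q hq
    by_contra hne
    have hgen : ∀ q, δ ((pullback.snd p p).fiberι v q) = δV (h q) := fun q => by
      obtain ⟨n, hn, hdn⟩ := Groth.L22.Bundle.deltaCompat_comp ((pullback.snd p p).fiberι v) _ hδfst q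
      have h0 : n = 0 := Nat.cast_eq_zero.1 (hn.symm.trans (Groth.L22.SymCorr.rtrdeg_eq_zero h q))
      simp only at hdn
      rw [hdn, h0]; simp [h]
    have hlt := (hS.2.2 _ _ (((genericPoint_spec _).specializes trivial : g ⤳ q).map
      ((pullback.snd p p).fiberι v).continuous)
      fun e => hne (((pullback.snd p p).fiberι v).isEmbedding.injective e).symm).1
    rw [hgen, hgen, hq, hδη] at hlt
    by_cases e : h g = η
    · rw [e, hδη] at hlt; exact lt_irrefl _ hlt
    · haveI : IsLocallyNoetherian V := LocallyOfFiniteType.isLocallyNoetherian p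
      exact absurd ((hlt.trans (Groth.L22.C1.delta_lt_generic hVd e)).trans_eq hδη) (lt_irrefl _)
  have e1 : pullC ψ hcψ Γ₁ = Γ₁ z₀ • pullC f hc Pv := Function.locallyFinsuppWithin.ext fun y => by
    show _ = Γ₁ z₀ * pullC f hc Pv y
    rw [pullC_apply, pullC_apply, mult_preimmersion ψ]
    simp only [ENat.toNat_one, Nat.cast_one, mul_one]
    by_cases hy : f y = v
    · obtain ⟨q, hq⟩ : ψ y ∈ Set.range ((pullback.snd p p).fiberι v) := by
        rw [Scheme.Hom.range_fiberι]
        exact (hψsnd y).trans hy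
      have hqg : q = g := huniq q (by
        show ((pullback.snd p p).fiberι v ≫ pullback.fst p p) q = η
        rw [Scheme.Hom.comp_apply, hq, hψfst])
      have hz : ψ y = z₀ := by rw [← hq, hqg]
      rw [hz, hy, hPv1, Groth.L22.Cyc.mult_congr f hψ2.symm y, Groth.L22.Cyc.mult_comp, hz, mult_preimmersion ψ,
        Groth.L22.Translate.mult_eq_one_of_fiber]
      simp
    · rw [hPv0 _ hy, zero_mul, mul_zero]
      by_contra hne
      exact hy ((hψsnd y).symm.trans (hsupp₁ _ hne))
  rw [eΔ, e1, e2, add_zero, ← natCast_zsmul] at h1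
  exact h1

end

/-- Zero-cycles of degree zero are killed. -/
theorem rat_of_good {F : Type u} [Field F] {V : Scheme.{u}} (p : V ⟶ Spec (CommRingCat.of F)) [IsProper p]
    [IsIntegral V] [Smooth p] [GeometricallyIntegral p] {δV : V → ℤ} (hδV : Cyc.DeltaCompat p δV fun _ => 0)
    {N : ℕ} (hN : 1 ≤ N) {m : ℤ} {Pv : AlgebraicCycle V ℤ} (hPv : Pv ∈ Cyc.Zk V δV 0)
    (hη : Good p δV N m Pv (V.residueField (genericPoint V)) (V.fromSpecResidueField (genericPoint V)))
    {Ω : Type u} [Field Ω] [IsAlgClosed Ω] (s : Spec (CommRingCat.of Ω) ⟶ Spec (CommRingCat.of F))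
    {δΩ : ↥(pullback p s) → ℤ} (hδΩ : Cyc.DeltaCompat (pullback.snd p s) δΩ fun _ => 0)
    (hSΩ : Cyc.IsSetup (pullback p s) δΩ) (α : AlgebraicCycle (pullback p s) ℤ)
    (hα : α ∈ Cyc.Zk (pullback p s) δΩ 0) (hdeg : ChowOps.deg (pullback.snd p s) δΩ α = 0) :
    α ∈ ratGroup hSΩ.2.2 0 := by
  classical
  haveI := hSΩ.1
  let gW := pullback.snd p s
  haveI : IsProper gW := inferInstance
  haveI : Flat p := inferInstance
  haveI : IsIntegral (pullback p s) := GeometricallyIntegral.isIntegral_of_isLocallyNoetherian gW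
  haveI : Subsingleton ↥(Spec (CommRingCat.of Ω)) := inferInstanceAs (Subsingleton (PrimeSpectrum Ω))
  haveI : CompactSpace ↥(pullback p s) := QuasiCompact.compactSpace_of_compactSpace gW
  have hc : Shift (pullback.fst p s) δΩ δV 0 :=
    shift_bc (IsPullback.of_hasPullback p s) (fun _ _ => (add_zero _).symm) hδV hδΩ
  let T := pullC (pullback.fst p s) hc Pv
  have hgood : ∀ w : ↥(pullback p s), IsClosed ({w} : Set ↥(pullback p s)) →
      (N : ℤ) • Function.locallyFinsuppWithin.single w (1 : ℤ) - m • T ∈ ratGroup hSΩ.2.2 0 := by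
    intro w hw
    let σ := pointOfClosedPoint gW w hw
    have hσg : σ ≫ gW = 𝟙 _ := pointOfClosedPoint_comp _ _ _
    have sq : IsPullback (pullback.fst p s) gW p ((σ ≫ pullback.fst p s) ≫ p) := by
      rw [Category.assoc, pullback.condition, ← Category.assoc, hσg, Category.id_comp]
      exact IsPullback.of_hasPullback p s
    have hpt : σ (IsLocalRing.closedPoint Ω) = w := pointOfClosedPoint_apply gW w hw _
    exact good_of_residue hδV (σ ≫ pullback.fst p s) _ rfl (good_all hδV hPv hη _) _ _ gW sq δΩ hδΩ hc σ rfl hσg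
      (Function.locallyFinsuppWithin.single w (1 : ℤ)) (by simp [hpt])
      (fun y hy => by
        rw [hpt] at hy
        simp [Function.locallyFinsuppWithin.single_apply, hy])
  have claim : ∀ A : AlgebraicCycle (pullback p s) ℤ, A ∈ Cyc.Zk (pullback p s) δΩ 0 →
      ChowOps.deg gW δΩ A = 0 → N • A ∈ ratGroup hSΩ.2.2 0 := by
    intro A hA hA0
    let B := (Groth.L22.Cyc.finite_support A).toFinset
    have hBc : ∀ w ∈ B, IsClosed ({w} : Set ↥(pullback p s)) := fun w hw =>
      (Groth.L22.SymCorr.delta_eq_zero_iff gW hδΩ w).1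
        (by_contra fun h => (Groth.L22.Cyc.finite_support A).mem_toFinset.1 hw (hA w h))
    have hsum : ∑ w ∈ B, A w = 0 := by
      rw [← hA0, ChowOps.deg]
      show _ = ∑ᶠ w ∈ gW ⁻¹' {IsLocalRing.closedPoint Ω},
        A w * ((AlgebraicCycle.mapCoeff gW δΩ (fun _ => (0 : ℤ)) w : ℕ) : ℤ)
      rw [show gW ⁻¹' {IsLocalRing.closedPoint Ω} = Set.univ from
          Set.eq_univ_of_forall fun w => Subsingleton.elim _ _,
        finsum_mem_univ, finsum_eq_sum_of_support_subset _ (s := B) fun w hw =>
          (Groth.L22.Cyc.finite_support A).mem_toFinset.2 (left_ne_zero_of_mul hw)]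
      refine Finset.sum_congr rfl fun w hw => ?_
      rw [Groth.L22.Cyc.mapCoeff_eq gW hδΩ, Groth.L22.SymCorr.residueDegree_of_isClosed gW w (hBc w hw),
        Nat.cast_one, mul_one]
    have hA : A = ∑ w ∈ B, A w • Function.locallyFinsuppWithin.single w (1 : ℤ) := by
      refine Function.locallyFinsuppWithin.ext fun y => ?_
      simp only [Function.locallyFinsuppWithin.coe_sum, Finset.sum_apply, Function.locallyFinsuppWithin.coe_zsmul,
        Pi.smul_apply, Function.locallyFinsuppWithin.single_apply, smul_eq_mul, mul_ite, mul_one, mul_zero]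
      rw [Finset.sum_ite_eq]
      split_ifs with hy
      · rfl
      · by_contra h
        exact hy ((Groth.L22.Cyc.finite_support A).mem_toFinset.2 h)
    have he : N • A = ∑ w ∈ B, A w • ((N : ℤ) • Function.locallyFinsuppWithin.single w (1 : ℤ) - m • T) := by
      simp only [smul_sub, Finset.sum_sub_distrib, ← Finset.sum_smul, hsum, zero_smul, sub_zero]
      rw [← natCast_zsmul, Finset.sum_congr rfl fun w _ => smul_comm (A w) (N : ℤ) _, ← Finset.smul_sum, ← hA]
    rw [he]
    exact sum_mem fun w hw => zsmul_mem (hgood w (hBc w hw)) _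
  obtain ⟨β, hβ, hrat⟩ := dvd_of_deg_zero gW hSΩ.2.2 hδΩ N hN α hα hdeg
  letI : (pullback p s).Over (Spec (CommRingCat.of Ω)) := ⟨gW⟩
  haveI : IsProper (pullback p s ↘ Spec (CommRingCat.of Ω)) := inferInstanceAs (IsProper gW)
  have h1 : ChowOps.deg gW δΩ α = ChowOps.deg gW δΩ (N • β) :=
    Groth.L22.Chern.deg_rat hSΩ hδΩ hrat
  have h2 : ChowOps.deg gW δΩ (N • β) = N • ChowOps.deg gW δΩ β := by
    show pushC gW δΩ (fun _ => (0 : ℤ)) (N • β) _ = _
    rw [map_nsmul]
    rfl
  rw [hdeg, h2, nsmul_eq_mul] at h1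
  have h3 : ChowOps.deg gW δΩ β = 0 := by
    rcases mul_eq_zero.1 h1.symm with h | h
    · exfalso; have : N = 0 := by exact_mod_cast h
      omega
    · exact h
  have h4 := add_mem hrat (claim β hβ h3)
  rwa [sub_add_cancel] at h4

end Groth.L22.DiagDec
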