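import Groth.Agent.L22.RatDescent.Dvr
import Groth.Agent.L22.Sp.Functorial

/-!
Specialisation over a discrete valuation ring respects rational equivalence and takes a section to its value at the
closed point.
-/

set_option autoImplicit false
set_option linter.style.haveILetI false
set_option maxSynthPendingDepth 3
set_option synthInstance.maxHeartbeats 400000
set_option backward.isDefEq.respectTransparency false
set_option backward.isDefEq.respectTransparency.types false

universe u

open CategoryTheory CategoryTheory.Limits AlgebraicGeometry TopologicalSpace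
open Groth.L22.Chern (Shift pullC pullC_coe pullC_apply pullC_mem pullC_rat ratGroup gys gys_apply gys_rat gys_mem)
open Groth.L22.Sp (eta sp dR sec)

noncomputable section

namespace Groth.L22.DiagDec

theorem mult_preimmersion {X Y : Scheme.{u}} (f : X ⟶ Y) [IsPreimmersion f] (x : X) :
    Groth.L22.Cyc.mult f x = 1 := by
  have h : Groth.L22.Cyc.fibIdeal f x = IsLocalRing.maximalIdeal (X.presheaf.stalk x) := by
    refine le_antisymm (Groth.L22.Cyc.fibIdeal_le f x) fun b hb => ?_
    obtain ⟨c, rfl⟩ := f.stalkMap_surjective x b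
    refine Ideal.mem_map_of_mem _ ?_
    by_contra hc
    exact hb ((IsLocalRing.notMem_maximalIdeal.1 hc).map (f.stalkMap x).hom)
  rw [Groth.L22.Cyc.mult, h, Module.length_eq_one_iff]
  exact isSimpleModule_iff_isCoatom.2 (Ideal.isMaximal_def.1 (IsLocalRing.maximalIdeal.isMaximal _))

variable {R : Type u} [CommRing R] [IsDomain R] [IsDiscreteValuationRing R] {Y : Scheme.{u}}
  (a : Y ⟶ Spec (CommRingCat.of R)) [IsLocallyNoetherian Y] {δ : Y → ℤ} (hd : Cyc.IsDimFun Y δ)

/-- The constant frame. -/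
def oneFrame (Y : Scheme.{u}) (ξ : Y) : Cyc.secFibre (Coh.structureModule Y) ξ :=
  Groth.L22.C1.mk _ ((Coh.structureModule Y).presheaf.germ ⊤ ξ trivial (Groth.L21.RR.oneSec _))

omit [IsLocallyNoetherian Y] in
theorem oneFrame_ne_zero (ξ : Y) : oneFrame Y ξ ≠ 0 :=
  Groth.L22.C1.mk_gen_ne_zero (Groth.L18.Ample.isInvertible_structureModule Y)
    (Groth.L22.C1.isGen_germ Groth.L21.RR.isFrame_oneSec trivial)

/-- Specialisation to the closed fibre. -/
def gysSp [IsClosedImmersion (a.fiberι (sp R))] : AlgebraicCycle Y ℤ →+ AlgebraicCycle (a.fiber (sp R)) ℤ :=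
  gys (a.fiberι (sp R)) hd (Groth.L18.Ample.isInvertible_structureModule Y) (sec a) oneFrame_ne_zero

variable [IsClosedImmersion (a.fiberι (sp R))] [IsLocallyNoetherian (a.fiber (sp R))]

/-- Vertical cycles specialise to zero. -/
theorem gysSp_vertical (γ : AlgebraicCycle Y ℤ) (h : ∀ ξ, γ ξ ≠ 0 → a ξ = sp R) : gysSp a hd γ = 0 := by
  refine Function.locallyFinsuppWithin.ext fun d => ?_
  rw [gysSp, gys_apply]
  refine finsum_eq_zero_of_forall_eq_zero fun ξ => ?_
  by_cases h0 : γ ξ = 0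
  · rw [h0, zero_mul]
  · rw [show Cyc.gysinChoice (Coh.structureModule Y) (sec a) (oneFrame Y) ξ = oneFrame Y ξ from
      if_neg (not_not.2 ((Groth.L22.Sp.mk_sec_eq_zero_iff a ξ).2 (h ξ h0))), oneFrame,
      Groth.L22.C1.secDivFun_frame hd (Groth.L18.Ample.isInvertible_structureModule Y)
        Groth.L21.RR.isFrame_oneSec ξ, mul_zero]

/-- A cycle whose generic fibre is rationally trivial specialises to a rationally trivial one. -/
theorem gysSp_rat (hY : Cyc.IsSetup Y δ) {YK : Scheme.{u}} [IsLocallyNoetherian YK] (m : YK ⟶ Y) [IsOpenImmersion m]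
    (hm : ∀ ξ, a ξ = eta R → ξ ∈ Set.range m) {δK : YK → ℤ} (hdK : Cyc.IsDimFun YK δK)
    (hshift : ∀ y, δ (m y) = δK y + 1) {n : ℤ} {A : AlgebraicCycle Y ℤ} (hA : A ∈ Cyc.Zk Y δ (n + 1))
    {AK : AlgebraicCycle YK ℤ} (hAK : ∀ y, AK y = A (m y)) (h0 : AK ∈ ratGroup hdK n)
    (hdD : Cyc.IsDimFun (a.fiber (sp R)) fun d => δ (a.fiberι (sp R) d)) :
    gysSp a hd A ∈ ratGroup hdD n := by
  have hms : Shift m.isoOpensRange.inv (fun u => δ (m.opensRange.ι u)) δK 1 := fun u _ => by
    show δ (m.opensRange.ι u) = δK (m.isoOpensRange.inv u) + 1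
    rw [← hshift, ← Scheme.Hom.comp_apply m.isoOpensRange.inv m, m.isoOpensRange_inv_comp]
  have hdU : Cyc.IsDimFun (↑m.opensRange : Scheme.{u}) fun u => δ (m.opensRange.ι u) := by
    intro x y hxy hne
    have hinj := m.opensRange.ι.isOpenEmbedding.injective
    obtain ⟨h1, h2⟩ := hd (m.opensRange.ι x) (m.opensRange.ι y) (hxy.map m.opensRange.ι.continuous)
      (fun h => hne (hinj h))
    refine ⟨h1, fun hmid => h2 fun z hz1 hz2 => ?_⟩
    obtain ⟨w, rfl⟩ : z ∈ Set.range m.opensRange.ι := by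
      rw [Scheme.Opens.range_ι]
      exact hz2.mem_open m.opensRange.isOpen (by
        have hy : m.opensRange.ι y ∈ Set.range m.opensRange.ι := ⟨y, rfl⟩
        rwa [Scheme.Opens.range_ι] at hy)
    have hind := m.opensRange.ι.isEmbedding.isInducing
    rcases hmid w (hind.specializes_iff.1 hz1) (hind.specializes_iff.1 hz2) with h | h
    · exact Or.inl (congrArg _ h)
    · exact Or.inr (congrArg _ h)
  have hU := pullC_rat m.isoOpensRange.inv hms hdU hdK h0
  obtain ⟨γ, hγ, hγU, hAγ⟩ := Groth.Agent.S1863.result Y δ hY m.opensRange (n + 1) A 0 hA (fun _ _ => rfl)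
    (pullC m.isoOpensRange.inv hms AK) 0
    (fun u => by
      rw [pullC_apply, Groth.L22.Bundle.mult_openImmersion, hAK, ← Scheme.Hom.comp_apply m.isoOpensRange.inv m,
        m.isoOpensRange_inv_comp]
      simp)
    (fun _ => rfl) (by rw [Cyc.RatEquiv, sub_zero]; exact hU)
  have hsupp : ∀ ξ, γ ξ ≠ 0 → a ξ = sp R := fun ξ h =>
    (Groth.L22.Sp.point_cases R (a ξ)).resolve_left fun h' => h (hγU ξ (hm ξ h'))
  have hr : A - (0 + γ) ∈ ratGroup hd (n + 1) := hAγ
  rw [zero_add] at hr
  have h1 := gys_rat (a.fiberι (sp R)) hd (Groth.L18.Ample.isInvertible_structureModule Y) (sec a)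
    oneFrame_ne_zero hdD (Groth.L22.Sp.isZeroSchemeOf a) hr
  rw [add_sub_cancel_right, map_sub] at h1
  change gysSp a hd A - gysSp a hd γ ∈ _ at h1
  rwa [gysSp_vertical a hd γ hsupp, sub_zero] at h1

/-- The specialisation of a section is its value at the closed point. -/
theorem gysSp_section (σ : Spec (CommRingCat.of R) ⟶ Y) [IsClosedImmersion σ] (hσ : σ ≫ a = 𝟙 _)
    (h1 : δ (σ (eta R)) = δ (σ (sp R)) + 1) {A : AlgebraicCycle Y ℤ} (hA1 : A (σ (eta R)) = 1)
    (hA : ∀ y, y ≠ σ (eta R) → A y = 0) (d : ↥(a.fiber (sp R))) :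
    (a.fiberι (sp R) d = σ (sp R) → gysSp a hd A d = 1) ∧
      (a.fiberι (sp R) d ≠ σ (sp R) → gysSp a hd A d = 0) := by
  have haσ : ∀ t, a (σ t) = t := fun t => by rw [← Scheme.Hom.comp_apply, hσ]; rfl
  have hL := Groth.L18.Ample.isInvertible_structureModule Y
  have hval : gysSp a hd A d = Cyc.divFun δ (σ (eta R)) (Y.residue (σ (eta R)) (Groth.L22.Sp.pi a (σ (eta R))))
      (a.fiberι (sp R) d) := by
    rw [gysSp, gys_apply, Cyc.c1CapFun, finsum_eq_single _ (σ (eta R)) fun ξ hξ => by rw [hA ξ hξ, zero_mul],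
      hA1, one_mul, ← Groth.L22.Sp.secDiv_eq a hd]
    congr 1
    refine if_pos fun h0 => ?_
    exact (Groth.L22.Sp.sp_ne_eta R).symm ((haσ _).symm.trans ((Groth.L22.Sp.mk_sec_eq_zero_iff a _).1 h0))
  have had : a (a.fiberι (sp R) d) = sp R := Groth.L22.Cyc.fromSpec_fiber_apply a (sp R) d
  rw [hval]
  constructor
  · intro hd0
    rw [hd0]
    have hsp : σ (eta R) ⤳ σ (sp R) := ((PrimeSpectrum.le_iff_specializes (eta R) (sp R)).1 (by
      rw [← PrimeSpectrum.asIdeal_le_asIdeal, Groth.L22.Sp.eta_asIdeal]; exact bot_le)).map σ.continuous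
    rw [Cyc.divFun, dif_pos ⟨hsp, h1.symm⟩, ← Groth.L22.Sp.ordAt_pi a hsp h1.symm (haσ _) (haσ _) hd]
    have hmax : (IsLocalRing.maximalIdeal ((Spec (CommRingCat.of R)).presheaf.stalk (a (σ (sp R))))).map
        ((Ideal.Quotient.mk (RingHom.ker (Cyc.specMap (σ (sp R)) (σ (eta R)) hsp))).comp (a.stalkMap (σ (sp R))).hom) =
        (IsLocalRing.maximalIdeal (Y.presheaf.stalk (σ (sp R)))).map
          (Ideal.Quotient.mk (RingHom.ker (Cyc.specMap (σ (sp R)) (σ (eta R)) hsp))) := by
      rw [← Ideal.map_map, Groth.L22.Sp.map_maximal a (haσ (sp R))]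
      refine le_antisymm (Ideal.map_mono ((Ideal.span_singleton_le_iff_mem _).2
        ((Groth.L22.Sp.pi_mem_iff a _).2 (haσ _)))) ?_
      rw [Ideal.map_le_iff_le_comap]
      intro b hb
      obtain ⟨r, hr⟩ : ∃ r : R, (σ.stalkMap (sp R)).hom b = Groth.L22.Bundle.gS (sp R) r := by
        letI : Algebra R ((Spec (CommRingCat.of R)).presheaf.stalk (sp R)) := (Groth.L22.Bundle.gS (sp R)).toAlgebra
        haveI : IsLocalization.AtPrime ((Spec (CommRingCat.of R)).presheaf.stalk (sp R)) (sp R).asIdeal :=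
          StructureSheaf.IsLocalization.to_stalk (CommRingCat.of R) (sp R)
        obtain ⟨⟨x, t⟩, hxt⟩ := IsLocalization.surj (sp R).asIdeal.primeCompl ((σ.stalkMap (sp R)).hom b)
        obtain ⟨v, hv⟩ := IsLocalRing.notMem_maximalIdeal.1 t.2
        refine ⟨x * ↑v⁻¹, ?_⟩
        show (σ.stalkMap (sp R)).hom b = algebraMap R ((Spec (CommRingCat.of R)).presheaf.stalk (sp R)) (x * ↑v⁻¹)
        rw [map_mul, ← hxt, mul_assoc, ← map_mul, ← hv, Units.mul_inv, map_one, mul_one]
      have hbm : (σ.stalkMap (sp R)).hom b ∈ IsLocalRing.maximalIdeal _ :=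
        fun hu => hb (isUnit_of_map_unit (σ.stalkMap (sp R)).hom b hu)
      rw [hr, Groth.L22.Bundle.gS_mem_iff, show (sp R).asIdeal = Ideal.span {Groth.L22.Sp.unif R} from
        Groth.L22.Sp.maximalIdeal_eq R, Ideal.mem_span_singleton] at hbm
      obtain ⟨r', hr'⟩ := hbm
      obtain ⟨c, hc⟩ := σ.stalkMap_surjective (sp R) (Groth.L22.Bundle.gS (sp R) r')
      have hπ : (σ.stalkMap (sp R)).hom (Groth.L22.Sp.pi a (σ (sp R))) =
          Groth.L22.Bundle.gS (sp R) (Groth.L22.Sp.unif R) := by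
        rw [← Groth.L22.Sp.pi_comp σ a]
        unfold Groth.L22.Sp.pi Groth.L22.Sp.piSec
        rw [hσ]
        rfl
      have hdiff : (σ.stalkMap (sp R)).hom (b - c * Groth.L22.Sp.pi a (σ (sp R))) = 0 := by
        rw [map_sub, map_mul, hr, hc, hπ, hr', map_mul, mul_comm, sub_self]
      have hker : b - c * Groth.L22.Sp.pi a (σ (sp R)) ∈ RingHom.ker (Cyc.specMap (σ (sp R)) (σ (eta R)) hsp) := by
        rw [RingHom.mem_ker, Groth.L22.Cyc.specMap_eq_residue]
        set b' := b - c * Groth.L22.Sp.pi a (σ (sp R))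
        have hspR : eta R ⤳ sp R := (PrimeSpectrum.le_iff_specializes (eta R) (sp R)).1 (by
          rw [← PrimeSpectrum.asIdeal_le_asIdeal, Groth.L22.Sp.eta_asIdeal]; exact bot_le)
        refine (Groth.L22.FibreDim.residueFieldMap_bijective σ (eta R)).1 ?_
        rw [map_zero]
        have h2 := congrArg ((Spec (CommRingCat.of R)).residue (eta R)) (show
          (σ.stalkMap (eta R)).hom (Y.presheaf.stalkSpecializes hsp b') = 0 by
            rw [show (σ.stalkMap (eta R)).hom (Y.presheaf.stalkSpecializes hsp b') =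
              ((Spec (CommRingCat.of R)).presheaf.stalkSpecializes hspR) (σ.stalkMap (sp R) b') from
                Scheme.Hom.stalkSpecializes_stalkMap_apply σ _ _ hspR b', hdiff, map_zero])
        rw [map_zero] at h2
        rw [← h2]
        exact congrArg (fun F => F (Y.presheaf.stalkSpecializes hsp b')) (congrArg (fun φ => (CommRingCat.Hom.hom φ : _ → _))
          (Scheme.residue_residueFieldMap σ (eta R)))
      rw [Ideal.mem_comap, Ideal.map_span, Set.image_singleton, ← sub_add_cancel b (c * Groth.L22.Sp.pi a (σ (sp R))),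
        map_add, Ideal.Quotient.eq_zero_iff_mem.2 hker, zero_add, map_mul]
      exact Ideal.mul_mem_left _ _ (Ideal.mem_span_singleton_self _)
    rw [hmax]
    haveI : (RingHom.ker (Cyc.specMap (σ (sp R)) (σ (eta R)) hsp)).IsPrime := RingHom.ker_isPrime _
    have hM : ((IsLocalRing.maximalIdeal (Y.presheaf.stalk (σ (sp R)))).map
        (Ideal.Quotient.mk (RingHom.ker (Cyc.specMap (σ (sp R)) (σ (eta R)) hsp)))).IsMaximal :=
      (Ideal.map_eq_top_or_isMaximal_of_surjective (Ideal.Quotient.mk (RingHom.ker (Cyc.specMap (σ (sp R)) (σ (eta R)) hsp)))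
        Ideal.Quotient.mk_surjective
        (IsLocalRing.maximalIdeal.isMaximal _)).resolve_left fun h => by
          have := congrArg (Ideal.comap (Ideal.Quotient.mk _)) h
          rw [Ideal.comap_map_of_surjective _ Ideal.Quotient.mk_surjective, Ideal.comap_top,
            show Ideal.comap (Ideal.Quotient.mk (RingHom.ker (Cyc.specMap (σ (sp R)) (σ (eta R)) hsp))) ⊥ =
              RingHom.ker (Cyc.specMap (σ (sp R)) (σ (eta R)) hsp) from Ideal.mk_ker,
            sup_eq_left.2 (IsLocalRing.le_maximalIdeal Ideal.IsPrime.ne_top')] at this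
          exact (IsLocalRing.maximalIdeal.isMaximal _).ne_top this
    have hlen : Module.length (Y.presheaf.stalk (σ (sp R)))
        (Cyc.LocQuot (σ (sp R)) (σ (eta R)) hsp ⧸ (IsLocalRing.maximalIdeal (Y.presheaf.stalk (σ (sp R)))).map
          (Ideal.Quotient.mk (RingHom.ker (Cyc.specMap (σ (sp R)) (σ (eta R)) hsp)))) = 1 := by
      rw [Module.length_eq_of_surjective (R := Cyc.LocQuot (σ (sp R)) (σ (eta R)) hsp) Ideal.Quotient.mk_surjective,
        Module.length_eq_one_iff]
      exact isSimpleModule_iff_isCoatom.2 (Ideal.isMaximal_def.1 hM)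
    rw [hlen]
    rfl
  · intro hd0
    refine dif_neg fun h => hd0 ?_
    obtain ⟨t, ht⟩ : a.fiberι (sp R) d ∈ Set.range σ :=
      h.1.mem_closed σ.isClosedEmbedding.isClosed_range ⟨eta R, rfl⟩
    rw [← ht, haσ] at had
    rw [← ht, had]

end Groth.L22.DiagDec
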